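import Cfsg.Agent.Lib.Spor.J1.Defs

/-! Checked facts: cosets of the point stabiliser. -/

set_option autoImplicit false
set_option maxHeartbeats 4000000
set_option maxRecDepth 10000

namespace Cfsg.Agent.J1Cert

/-- check of the left products -/
noncomputable def hclChk (k : Nat) : Bool := [false, true].all fun s => decide (hcl s k < 114) &&
  feq frame (fun f => hgP s (get (hT k) f)) (get (hT (hcl s k)))

theorem hcl_chk0 : ((List.range 57).all fun d => hclChk (0 + d)) = true := by decide +kernel

theorem hcl_chk1 : ((List.range 57).all fun d => hclChk (57 + d)) = true := by decide +kernel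

theorem hcl_chk {i : Nat} (hi : i < 114) : hclChk i = true := by
  by_cases h0 : i < 57
  · have h := List.all_eq_true.1 hcl_chk0 (i - 0) (List.mem_range.2 (by omega)); rwa [show 0 + (i - 0) = i by omega] at h
  have h := List.all_eq_true.1 hcl_chk1 (i - 57) (List.mem_range.2 (by omega)); rwa [show 57 + (i - 57) = i by omega] at h

theorem schreier_chk0 : ((List.range 220).all fun d => sChk (0 + d)) = true := by decide +kernel

theorem schreier_chk1 : ((List.range 220).all fun d => sChk (220 + d)) = true := by decide +kernel

theorem schreier_chk2 : ((List.range 220).all fun d => sChk (440 + d)) = true := by decide +kernel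

theorem schreier_chk3 : ((List.range 220).all fun d => sChk (660 + d)) = true := by decide +kernel

theorem schreier_chk4 : ((List.range 220).all fun d => sChk (880 + d)) = true := by decide +kernel

theorem schreier_chk5 : ((List.range 220).all fun d => sChk (1100 + d)) = true := by decide +kernel

theorem schreier_chk6 : ((List.range 220).all fun d => sChk (1320 + d)) = true := by decide +kernel

theorem schreier_chk {i : Nat} (hi : i < 1540) : sChk i = true := by
  by_cases h0 : i < 220
  · have h := List.all_eq_true.1 schreier_chk0 (i - 0) (List.mem_range.2 (by omega)); rwa [show 0 + (i - 0) = i by omega] at h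
  by_cases h1 : i < 440
  · have h := List.all_eq_true.1 schreier_chk1 (i - 220) (List.mem_range.2 (by omega)); rwa [show 220 + (i - 220) = i by omega] at h
  by_cases h2 : i < 660
  · have h := List.all_eq_true.1 schreier_chk2 (i - 440) (List.mem_range.2 (by omega)); rwa [show 440 + (i - 440) = i by omega] at h
  by_cases h3 : i < 880
  · have h := List.all_eq_true.1 schreier_chk3 (i - 660) (List.mem_range.2 (by omega)); rwa [show 660 + (i - 660) = i by omega] at h
  by_cases h4 : i < 1100
  · have h := List.all_eq_true.1 schreier_chk4 (i - 880) (List.mem_range.2 (by omega)); rwa [show 880 + (i - 880) = i by omega] at h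
  by_cases h5 : i < 1320
  · have h := List.all_eq_true.1 schreier_chk5 (i - 1100) (List.mem_range.2 (by omega)); rwa [show 1100 + (i - 1100) = i by omega] at h
  have h := List.all_eq_true.1 schreier_chk6 (i - 1320) (List.mem_range.2 (by omega)); rwa [show 1320 + (i - 1320) = i by omega] at h

theorem hb_chk : ((List.range 114).all fun k => (List.range k).all fun l =>
    !(Nat.beq (get (hT k) bpt) (get (hT l) bpt))) = true := by decide +kernel

theorem conj_chk : ((List.range 1540).all fun i => decide (get kcT i < 114) && decide (get orbT i < 21) &&
    Nat.beq (get (hT (get kcT i)) i) (get repT (get orbT i)) && (Nat.beq i 0 || !(Nat.beq (get orbT i) 0))) = true := by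
  decide +kernel

end Cfsg.Agent.J1Cert
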