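import Cfsg.Agent.Lib.Spor.J1.Defs

/-! Checked facts: generators and points. -/

set_option autoImplicit false
set_option maxHeartbeats 4000000
set_option maxRecDepth 10000

namespace Cfsg.Agent.J1Cert

theorem gen_chk0 : ((List.range 385).all fun d => genChk (0 + d)) = true := by decide +kernel

theorem gen_chk1 : ((List.range 385).all fun d => genChk (385 + d)) = true := by decide +kernel

theorem gen_chk2 : ((List.range 385).all fun d => genChk (770 + d)) = true := by decide +kernel

theorem gen_chk3 : ((List.range 385).all fun d => genChk (1155 + d)) = true := by decide +kernel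

theorem gen_chk {i : Nat} (hi : i < 1540) : genChk i = true := by
  by_cases h0 : i < 385
  · have h := List.all_eq_true.1 gen_chk0 (i - 0) (List.mem_range.2 (by omega)); rwa [show 0 + (i - 0) = i by omega] at h
  by_cases h1 : i < 770
  · have h := List.all_eq_true.1 gen_chk1 (i - 385) (List.mem_range.2 (by omega)); rwa [show 385 + (i - 385) = i by omega] at h
  by_cases h2 : i < 1155
  · have h := List.all_eq_true.1 gen_chk2 (i - 770) (List.mem_range.2 (by omega)); rwa [show 770 + (i - 770) = i by omega] at h
  have h := List.all_eq_true.1 gen_chk3 (i - 1155) (List.mem_range.2 (by omega)); rwa [show 1155 + (i - 1155) = i by omega] at h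

theorem pt_chk0 : ((List.range 770).all fun d => ptChk (0 + d)) = true := by decide +kernel

theorem pt_chk1 : ((List.range 770).all fun d => ptChk (770 + d)) = true := by decide +kernel

theorem pt_chk {i : Nat} (hi : i < 1540) : ptChk i = true := by
  by_cases h0 : i < 770
  · have h := List.all_eq_true.1 pt_chk0 (i - 0) (List.mem_range.2 (by omega)); rwa [show 0 + (i - 0) = i by omega] at h
  have h := List.all_eq_true.1 pt_chk1 (i - 770) (List.mem_range.2 (by omega)); rwa [show 770 + (i - 770) = i by omega] at h

theorem e_chk0 : ((List.range 770).all fun d => eChk (0 + d)) = true := by decide +kernel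

theorem e_chk1 : ((List.range 770).all fun d => eChk (770 + d)) = true := by decide +kernel

theorem e_chk {i : Nat} (hi : i < 1540) : eChk i = true := by
  by_cases h0 : i < 770
  · have h := List.all_eq_true.1 e_chk0 (i - 0) (List.mem_range.2 (by omega)); rwa [show 0 + (i - 0) = i by omega] at h
  have h := List.all_eq_true.1 e_chk1 (i - 770) (List.mem_range.2 (by omega)); rwa [show 770 + (i - 770) = i by omega] at h

theorem hg_chk : ([false, true].all fun s => (List.range 1540).all fun i => Nat.beq (wP (hg s) i) (hgP s i)) = true := by
  decide +kernel

end Cfsg.Agent.J1Cert
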