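import Cfsg.Agent.Lib.Spor.J1.Defs

/-! Checked facts: tables of the point stabiliser. -/

set_option autoImplicit false
set_option maxHeartbeats 4000000
set_option maxRecDepth 10000

namespace Cfsg.Agent.J1Cert

theorem h_chk0 : ((List.range 10).all fun d => hChk (0 + d)) = true := by decide +kernel

theorem h_chk1 : ((List.range 10).all fun d => hChk (10 + d)) = true := by decide +kernel

theorem h_chk2 : ((List.range 10).all fun d => hChk (20 + d)) = true := by decide +kernel

theorem h_chk3 : ((List.range 10).all fun d => hChk (30 + d)) = true := by decide +kernel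

theorem h_chk4 : ((List.range 10).all fun d => hChk (40 + d)) = true := by decide +kernel

theorem h_chk5 : ((List.range 10).all fun d => hChk (50 + d)) = true := by decide +kernel

theorem h_chk6 : ((List.range 10).all fun d => hChk (60 + d)) = true := by decide +kernel

theorem h_chk7 : ((List.range 10).all fun d => hChk (70 + d)) = true := by decide +kernel

theorem h_chk8 : ((List.range 10).all fun d => hChk (80 + d)) = true := by decide +kernel

theorem h_chk9 : ((List.range 10).all fun d => hChk (90 + d)) = true := by decide +kernel

theorem h_chk10 : ((List.range 10).all fun d => hChk (100 + d)) = true := by decide +kernel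

theorem h_chk11 : ((List.range 4).all fun d => hChk (110 + d)) = true := by decide +kernel

theorem h_chk {i : Nat} (hi : i < 114) : hChk i = true := by
  by_cases h0 : i < 10
  · have h := List.all_eq_true.1 h_chk0 (i - 0) (List.mem_range.2 (by omega)); rwa [show 0 + (i - 0) = i by omega] at h
  by_cases h1 : i < 20
  · have h := List.all_eq_true.1 h_chk1 (i - 10) (List.mem_range.2 (by omega)); rwa [show 10 + (i - 10) = i by omega] at h
  by_cases h2 : i < 30
  · have h := List.all_eq_true.1 h_chk2 (i - 20) (List.mem_range.2 (by omega)); rwa [show 20 + (i - 20) = i by omega] at h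
  by_cases h3 : i < 40
  · have h := List.all_eq_true.1 h_chk3 (i - 30) (List.mem_range.2 (by omega)); rwa [show 30 + (i - 30) = i by omega] at h
  by_cases h4 : i < 50
  · have h := List.all_eq_true.1 h_chk4 (i - 40) (List.mem_range.2 (by omega)); rwa [show 40 + (i - 40) = i by omega] at h
  by_cases h5 : i < 60
  · have h := List.all_eq_true.1 h_chk5 (i - 50) (List.mem_range.2 (by omega)); rwa [show 50 + (i - 50) = i by omega] at h
  by_cases h6 : i < 70
  · have h := List.all_eq_true.1 h_chk6 (i - 60) (List.mem_range.2 (by omega)); rwa [show 60 + (i - 60) = i by omega] at h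
  by_cases h7 : i < 80
  · have h := List.all_eq_true.1 h_chk7 (i - 70) (List.mem_range.2 (by omega)); rwa [show 70 + (i - 70) = i by omega] at h
  by_cases h8 : i < 90
  · have h := List.all_eq_true.1 h_chk8 (i - 80) (List.mem_range.2 (by omega)); rwa [show 80 + (i - 80) = i by omega] at h
  by_cases h9 : i < 100
  · have h := List.all_eq_true.1 h_chk9 (i - 90) (List.mem_range.2 (by omega)); rwa [show 90 + (i - 90) = i by omega] at h
  by_cases h10 : i < 110
  · have h := List.all_eq_true.1 h_chk10 (i - 100) (List.mem_range.2 (by omega)); rwa [show 100 + (i - 100) = i by omega] at h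
  have h := List.all_eq_true.1 h_chk11 (i - 110) (List.mem_range.2 (by omega)); rwa [show 110 + (i - 110) = i by omega] at h

end Cfsg.Agent.J1Cert
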