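import Mathlib
import Cfsg.Prelude.Def_Spor_J1
import Cfsg.Agent.Lib.Spor.J1.CheckGen
import Cfsg.Agent.Lib.Spor.J1.CheckStab
import Cfsg.Agent.Lib.Spor.J1.CheckCoset

/-! `J1` acting on 1540 points: normal form, order 175560 and the permutation action. -/

set_option autoImplicit false

namespace Cfsg.Agent.J1Cert

open Cfsg Cfsg.Spor Matrix

local instance factPrimeEleven : Fact (Nat.Prime 11) := ⟨by norm_num⟩

local notation "GL7" => GL (Fin 7) (ZMod 11)
local notation "M7" => Matrix (Fin 7) (Fin 7) (ZMod 11)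

theorem all_range {n : ℕ} {f : ℕ → Bool} (h : (List.range n).all f = true) {i : ℕ} (hi : i < n) : f i = true :=
  List.all_eq_true.1 h i (List.mem_range.2 hi)

theorem all_bool {f : Bool → Bool} (h : [false, true].all f = true) (s : Bool) : f s = true :=
  List.all_eq_true.1 h s (by cases s <;> simp)

theorem nbeq {a b : ℕ} : Nat.beq a b = true ↔ a = b := ⟨Nat.eq_of_beq_eq_true, fun h => h ▸ Nat.beq_refl a⟩

theorem nbne {a b : ℕ} : Nat.beq a b = false ↔ a ≠ b := by
  rw [← Bool.not_eq_true, nbeq]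

theorem feq_eq {L : List ℕ} {σ τ : ℕ → ℕ} (h : feq L σ τ = true) : ∀ f ∈ L, σ f = τ f := fun f hf =>
  nbeq.1 (List.all_eq_true.1 h f hf)

/-- the point -/
noncomputable def vv (i : ℕ) : Fin 7 → ZMod 11 := fun k => (pc i k : ℕ)

theorem pt_row {i : ℕ} (hi : i < 1540) :
    (get rkT i < 1540 ∧ get srtT (get rkT i) = i ∧ (i = 0 ∨ pcode (get srtT (i - 1)) < pcode (get srtT i))) ∧
    (∃ k, k < 7 ∧ pc i k = 1 ∧ ∀ l < k, pc i l = 0) ∧ (∀ k < 7, pc i k < 11) ∧
    pcode i = pc i 0 + 16 * pc i 1 + 256 * pc i 2 + 4096 * pc i 3 + 65536 * pc i 4 + 1048576 * pc i 5 + 16777216 * pc i 6 := by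
  have h := pt_chk hi
  simp only [ptChk, Bool.and_eq_true, Bool.or_eq_true, decide_eq_true_eq, nbeq, List.any_eq_true, List.all_eq_true,
    List.mem_range] at h
  exact ⟨⟨h.1.1.1.1.1, h.1.1.1.1.2, h.1.1.1.2⟩, h.1.1.2, h.1.2, h.2⟩

theorem pc_lt {i : ℕ} (hi : i < 1540) (k : Fin 7) : pc i k < 11 := (pt_row hi).2.2.1 k k.isLt

theorem vv_val {i : ℕ} (hi : i < 1540) (k : Fin 7) : (vv i k).val = pc i k :=
  ZMod.val_cast_of_lt (pc_lt hi k)

theorem vv_lead {i : ℕ} (hi : i < 1540) : ∃ k : Fin 7, vv i k = 1 ∧ ∀ l : Fin 7, l < k → vv i l = 0 := by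
  obtain ⟨k, hk, h1, h0⟩ := (pt_row hi).2.1
  exact ⟨⟨k, hk⟩, by simp [vv, h1], fun l hl => by simp [vv, h0 l hl]⟩

theorem vv_inj {i j : ℕ} (hi : i < 1540) (hj : j < 1540) {c : ZMod 11} (hc : c ≠ 0) (h : c • vv i = vv j) :
    i = j := by
  obtain ⟨k, hk1, hk0⟩ := vv_lead hi
  obtain ⟨l, hl1, hl0⟩ := vv_lead hj
  have hkl : k = l := by
    rcases lt_trichotomy k l with e | e | e
    · have := congrFun h k
      simp [hk1, hl0 k e] at this
      exact absurd this hc
    · exact e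
    · have := congrFun h l
      simp [hl1, hk0 l e] at this
  subst hkl
  have hc1 : c = 1 := by simpa [hk1, hl1] using congrFun h k
  rw [hc1, one_smul] at h
  have hcode : pcode i = pcode j := by
    have e1 := (pt_row hi).2.2.2
    have e2 := (pt_row hj).2.2.2
    have e : ∀ k : Fin 7, pc i k = pc j k := fun k => by rw [← vv_val hi, ← vv_val hj, h]
    have d0 := e 0; have d1 := e 1; have d2 := e 2; have d3 := e 3
    have d4 := e 4; have d5 := e 5; have d6 := e 6
    simp only [Fin.val_zero, Fin.val_one, Fin.val_two] at d0 d1 d2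
    have d3' : pc i 3 = pc j 3 := d3
    have d4' : pc i 4 = pc j 4 := d4
    have d5' : pc i 5 = pc j 5 := d5
    have d6' : pc i 6 = pc j 6 := d6
    rw [e1, e2, d0, d1, d2, d3', d4', d5', d6']
  have hs : ∀ x, x < 1540 → get rkT x < 1540 ∧ get srtT (get rkT x) = x ∧
      ∀ y, y + 1 = x → pcode (get srtT y) < pcode (get srtT x) := by
    intro x hx
    obtain ⟨h1, h2, h3⟩ := (pt_row hx).1
    refine ⟨h1, h2, fun y hy => ?_⟩
    rcases h3 with e | e
    · omega
    · rwa [show x - 1 = y by omega] at e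
  have hmono : ∀ d a, a + d + 1 < 1540 → pcode (get srtT a) < pcode (get srtT (a + d + 1)) := by
    intro d
    induction d with
    | zero => exact fun a ha => (hs _ ha).2.2 a rfl
    | succ d ih =>
      intro a ha
      exact (ih a (by omega)).trans ((hs _ ha).2.2 (a + d + 1) (by omega))
  obtain ⟨ri, si, -⟩ := hs i hi
  obtain ⟨rj, sj, -⟩ := hs j hj
  rcases lt_trichotomy (get rkT i) (get rkT j) with e | e | e
  · have := hmono (get rkT j - get rkT i - 1) (get rkT i) (by omega)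
    rw [show get rkT i + (get rkT j - get rkT i - 1) + 1 = get rkT j by omega, si, sj] at this
    omega
  · rw [← si, e, sj]
  · have := hmono (get rkT i - get rkT j - 1) (get rkT j) (by omega)
    rw [show get rkT j + (get rkT i - get rkT j - 1) + 1 = get rkT i by omega, si, sj] at this
    omega

/-- `g` lies in `J1` and moves the points as `σ` -/
def Acts (g : GL7) (σ : ℕ → ℕ) : Prop :=
  g ∈ J1 ∧ (g : M7).det = 1 ∧ ∀ i < 1540, σ i < 1540 ∧ ∃ c : ZMod 11, c ≠ 0 ∧ (g : M7) *ᵥ vv i = c • vv (σ i)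

theorem acts_one : Acts 1 id :=
  ⟨one_mem _, by simp, fun i hi => ⟨hi, 1, one_ne_zero, by simp⟩⟩

theorem Acts.mul {g h : GL7} {σ τ : ℕ → ℕ} (hg : Acts g σ) (hh : Acts h τ) : Acts (g * h) (fun i => σ (τ i)) := by
  refine ⟨mul_mem hg.1 hh.1, by rw [Units.val_mul, Matrix.det_mul, hg.2.1, hh.2.1, one_mul], fun i hi => ?_⟩
  obtain ⟨h1, c, hc, ec⟩ := hh.2.2 i hi
  obtain ⟨h2, d, hd, ed⟩ := hg.2.2 _ h1
  refine ⟨h2, c * d, mul_ne_zero hc hd, ?_⟩
  rw [Units.val_mul, ← Matrix.mulVec_mulVec, ec, Matrix.mulVec_smul, ed, smul_smul]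

theorem Acts.congr {g : GL7} {σ τ : ℕ → ℕ} (hg : Acts g σ) (h : ∀ i < 1540, σ i = τ i) : Acts g τ :=
  ⟨hg.1, hg.2.1, fun i hi => h i hi ▸ hg.2.2 i hi⟩

theorem Acts.unique {g : GL7} {σ τ : ℕ → ℕ} (hg : Acts g σ) (hg' : Acts g τ) {i : ℕ} (hi : i < 1540) :
    σ i = τ i := by
  obtain ⟨h1, c, hc, ec⟩ := hg.2.2 i hi
  obtain ⟨h2, d, hd, ed⟩ := hg'.2.2 i hi
  refine vv_inj h1 h2 (c := d⁻¹ * c) (mul_ne_zero (inv_ne_zero hd) hc) ?_
  rw [mul_smul, ← ec, ed, smul_smul, inv_mul_cancel₀ hd, one_smul]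

theorem frame_lt : ∀ f ∈ frame, f < 1540 := by decide +kernel

theorem frame_eq : frame = [0, 1, 2, 3, 4, 5, 6, 8] := rfl

/-- the first seven frame points as columns -/
noncomputable def frameMat : M7 := Matrix.of fun i j => vv ([0, 1, 2, 3, 4, 5, 6].getD j.val 0) i

/-- inverse of the frame matrix -/
def frameInv : M7 := !![1, 7, 5, 5, 8, 5, 9; 10, 8, 2, 3, 10, 0, 7; 2, 4, 5, 4, 6, 1, 2; 6, 4, 6, 4, 10, 3, 2; 4, 1, 4, 9, 5, 4, 6; 6, 2, 4, 1, 8, 4, 1; 5, 7, 7, 7, 8, 5, 6]

theorem frame_inv : frameMat * frameInv = 1 := by decide +kernel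

theorem frame_coord : ∀ j, (frameInv *ᵥ vv 8) j ≠ 0 := by decide +kernel

theorem Acts.ext {g h : GL7} {σ τ : ℕ → ℕ} (hg : Acts g σ) (hh : Acts h τ) (he : ∀ f ∈ frame, σ f = τ f) :
    g = h := by
  set M : M7 := ((h⁻¹ * g : GL7) : M7)
  have hdet : M.det = 1 := by
    show ((h⁻¹ * g : GL7) : M7).det = 1
    rw [Units.val_mul, Matrix.det_mul, hg.2.1, mul_one]
    have := congrArg Matrix.det (Units.inv_mul h)
    rw [Matrix.det_mul, hh.2.1, mul_one, Matrix.det_one] at this
    exact this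
  have hfix : ∀ f ∈ frame, ∃ c : ZMod 11, M *ᵥ vv f = c • vv f := by
    intro f hf
    obtain ⟨-, c, hc, ec⟩ := hg.2.2 f (frame_lt f hf)
    obtain ⟨-, d, hd, ed⟩ := hh.2.2 f (frame_lt f hf)
    refine ⟨c * d⁻¹, ?_⟩
    show ((h⁻¹ * g : GL7) : M7) *ᵥ vv f = _
    rw [Units.val_mul, ← Matrix.mulVec_mulVec, ec, he f hf, Matrix.mulVec_smul]
    have : vv (τ f) = d⁻¹ • (h : M7) *ᵥ vv f := by rw [ed, smul_smul, inv_mul_cancel₀ hd, one_smul]
    rw [this, Matrix.mulVec_smul, Matrix.mulVec_mulVec, Units.inv_mul, Matrix.one_mulVec, smul_smul]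
  have hcol : ∀ j : Fin 7, [0, 1, 2, 3, 4, 5, 6].getD j.val 0 ∈ frame := by decide +kernel
  choose d hd using fun j : Fin 7 => hfix _ (hcol j)
  obtain ⟨c, hc⟩ := hfix 8 (by decide +kernel)
  have hMP : M * frameMat = frameMat * Matrix.diagonal d := by
    ext i j
    have h1 := congrFun (hd j) i
    rw [Matrix.mul_diagonal]
    simp only [Matrix.mulVec, dotProduct, Pi.smul_apply, smul_eq_mul] at h1
    rw [Matrix.mul_apply]
    simpa [frameMat, mul_comm] using h1
  have hPQ := frame_inv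
  have hQP : frameInv * frameMat = 1 := mul_eq_one_comm.1 hPQ
  have hu : Matrix.diagonal d *ᵥ (frameInv *ᵥ vv 8) = c • (frameInv *ᵥ vv 8) := by
    calc Matrix.diagonal d *ᵥ (frameInv *ᵥ vv 8)
        = (frameInv * frameMat) *ᵥ (Matrix.diagonal d *ᵥ (frameInv *ᵥ vv 8)) := by rw [hQP, Matrix.one_mulVec]
      _ = frameInv *ᵥ ((frameMat * Matrix.diagonal d) *ᵥ (frameInv *ᵥ vv 8)) := by
          simp only [Matrix.mulVec_mulVec, Matrix.mul_assoc]
      _ = frameInv *ᵥ (M *ᵥ vv 8) := by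
          rw [← hMP, ← Matrix.mulVec_mulVec, Matrix.mulVec_mulVec (vv 8) frameMat, hPQ, Matrix.one_mulVec]
      _ = _ := by rw [hc, Matrix.mulVec_smul]
  have hdc : ∀ j, d j = c := fun j => by
    have := congrFun hu j
    rw [Matrix.mulVec_diagonal, Pi.smul_apply, smul_eq_mul] at this
    exact mul_right_cancel₀ (frame_coord j) this
  have hM : M = c • (1 : M7) := by
    calc M = M * (frameMat * frameInv) := by rw [hPQ, Matrix.mul_one]
      _ = frameMat * Matrix.diagonal d * frameInv := by rw [← Matrix.mul_assoc, hMP]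
      _ = c • (1 : M7) := by
          rw [show d = fun _ => c from funext hdc, ← Matrix.smul_one_eq_diagonal, Matrix.mul_smul, Matrix.mul_one,
            Matrix.smul_mul, hPQ]
  rw [hM, Matrix.det_smul, Matrix.det_one, mul_one, Fintype.card_fin] at hdet
  have key : ∀ c : ZMod 11, c ^ 7 = 1 → c = 1 := by decide
  rw [key c hdet, one_smul] at hM
  exact (inv_mul_eq_one.1 (Units.ext hM)).symm

theorem jankoX_pow : jankoX ^ 7 = 1 := by
  apply Units.ext
  rw [Units.val_pow_eq_pow_val, Units.val_one]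
  show jankoMatrixX ^ 7 = 1
  decide +kernel

theorem jankoY_pow : jankoY ^ 5 = 1 := by
  apply Units.ext
  rw [Units.val_pow_eq_pow_val, Units.val_one]
  show jankoMatrixY ^ 5 = 1
  decide +kernel

/-- the generators -/
def gM (s : Bool) : GL7 := bif s then jankoY else jankoX

theorem det_gen (s : Bool) : ((gM s : GL7) : M7).det = 1 := by
  have horth : ∀ s, ((gM s : GL7) : M7) * ((gM s : GL7) : M7)ᵀ = 1 := fun s => by
    cases s <;> exact (gM _).val_inv
  have h2 : ((gM s : GL7) : M7).det * ((gM s : GL7) : M7).det = 1 := by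
    have := congrArg Matrix.det (horth s)
    rwa [Matrix.det_mul, Matrix.det_transpose, Matrix.det_one] at this
  have h3 : ((gM s : GL7) : M7).det ^ (bif s then 5 else 7) = 1 := by
    cases s
    · have := congrArg (fun g : GL7 => (g : M7).det) jankoX_pow
      simpa [Units.val_pow_eq_pow_val, Matrix.det_pow, gM] using this
    · have := congrArg (fun g : GL7 => (g : M7).det) jankoY_pow
      simpa [Units.val_pow_eq_pow_val, Matrix.det_pow, gM] using this
  have key : ∀ c : ZMod 11, c * c = 1 → ∀ s : Bool, c ^ (bif s then 5 else 7) = 1 → c = 1 := by decide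
  exact key _ h2 s h3

theorem row_mul {i j c : ℕ} (a : List ℕ) (A : M7) (k : Fin 7) (hA : ∀ l : Fin 7, (A k l).val = a.getD l.val 0)
    (h : rowChk a i j c k = true) : (A *ᵥ vv i) k = ((c : ℕ) : ZMod 11) * vv j k := by
  have hA' : ∀ l : Fin 7, A k l = ((a.getD l.val 0 : ℕ) : ZMod 11) := fun l => by
    rw [← hA, ZMod.natCast_zmod_val]
  have h' := congrArg (fun n : ℕ => (n : ZMod 11)) (nbeq.1 h)
  simp only [ZMod.natCast_mod, Nat.cast_add, Nat.cast_mul] at h'
  rw [Matrix.mulVec, dotProduct, Fin.sum_univ_seven]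
  simp only [hA', vv]
  exact h'

theorem rows_X : ∀ i k : Fin 7, (jankoMatrixX i k).val = (rowsX.getD i.val []).getD k.val 0 := by decide +kernel

theorem rows_Y : ∀ i k : Fin 7, (jankoMatrixY i k).val = (rowsY.getD i.val []).getD k.val 0 := by decide +kernel

theorem acts_gen (s : Bool) : Acts (gM s) (gP s) := by
  refine ⟨by cases s <;> exact Subgroup.subset_closure (by simp [gM]), det_gen s, fun i hi => ?_⟩
  have h := gen_chk hi
  simp only [genChk, Bool.and_eq_true, decide_eq_true_eq, Bool.not_eq_true', nbne, ne_eq, List.all_eq_true,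
    List.mem_range] at h
  cases s
  · refine ⟨h.1.1.1, ((get4 cT0 i : ℕ) : ZMod 11), fun e => h.1.1.2 ?_, funext fun k => ?_⟩
    · exact Nat.mod_eq_zero_of_dvd ((ZMod.natCast_eq_zero_iff _ _).1 e) |> fun h => h
    · exact row_mul _ jankoMatrixX k (rows_X k) (h.1.2 k k.isLt)
  · refine ⟨h.2.1.1, ((get4 cT1 i : ℕ) : ZMod 11), fun e => h.2.1.2 ?_, funext fun k => ?_⟩
    · exact Nat.mod_eq_zero_of_dvd ((ZMod.natCast_eq_zero_iff _ _).1 e) |> fun h => h
    · exact row_mul _ jankoMatrixY k (rows_Y k) (h.2.2 k k.isLt)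

/-- product of a word -/
def wM : List Bool → GL7
  | [] => 1
  | s :: w => gM s * wM w

theorem acts_word : ∀ w, Acts (wM w) (wP w)
  | [] => acts_one
  | s :: w => (acts_gen s).mul (acts_word w)

/-- transversal -/
noncomputable def eM : ℕ → ℕ → GL7
  | 0, _ => 1
  | k + 1, i => bif Nat.beq i 0 then 1 else gM (Nat.beq (get4 labT i) 1) * eM k (get parT i)

theorem eM_at_zero : ∀ k, eM k 0 = 1
  | 0 => rfl
  | _ + 1 => rfl

theorem acts_eM : ∀ k i, Acts (eM k i) (eP k i)
  | 0, _ => acts_one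
  | k + 1, i => by
    by_cases h : i = 0
    · subst h
      exact acts_one
    · have hb : Nat.beq i 0 = false := nbne.2 h
      have := (acts_gen (Nat.beq (get4 labT i) 1)).mul (acts_eM k (get parT i))
      simp only [eM, hb, cond_false]
      exact this.congr fun f _ => by simp only [eP, hb, cond_false]

theorem e_row {i : ℕ} (hi : i < 1540) : (i ≠ 0 → get parT i < i) ∧ get eF0 i = i ∧
    ∀ n < 8, get (eFT.getD n (Tab.l 0)) i = bif Nat.beq i 0 then frame.getD n 0
      else gP (Nat.beq (get4 labT i) 1) (get (eFT.getD n (Tab.l 0)) (get parT i)) := by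
  have h := e_chk hi
  simp only [eChk, Bool.and_eq_true, Bool.or_eq_true, decide_eq_true_eq, nbeq, List.all_eq_true, List.mem_range] at h
  exact ⟨fun h0 => h.1.resolve_left h0, (h.2 0 (by norm_num)).2, fun n hn => (h.2 n hn).1⟩

theorem eP_frame : ∀ k i, i ≤ k → i < 1540 → ∀ n < 8, eP k i (frame.getD n 0) = get (eFT.getD n (Tab.l 0)) i := by
  intro k
  induction k with
  | zero =>
    intro i hik hi n hn
    obtain rfl : i = 0 := by omega
    rw [(e_row hi).2.2 n hn]
    rfl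
  | succ k ih =>
    intro i hik hi n hn
    obtain ⟨h1, -, h3⟩ := e_row hi
    rw [h3 n hn]
    by_cases h : i = 0
    · subst h
      rfl
    · have hb : Nat.beq i 0 = false := nbne.2 h
      have := h1 h
      simp only [eP, hb, cond_false]
      rw [ih _ (by omega) (by omega) n hn]

theorem eP_zero_pt {i : ℕ} (hi : i < 1540) : eP fuel i 0 = i :=
  (eP_frame fuel i hi.le hi 0 (by norm_num)).trans (e_row hi).2.1

theorem par_step {i : ℕ} (hi : i < 1540) (h0 : i ≠ 0) :
    get parT i < i ∧ gP (Nat.beq (get4 labT i) 1) (get parT i) = i := by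
  obtain ⟨h1, h2, h3⟩ := e_row hi
  have h := h3 0 (by norm_num)
  rw [show Nat.beq i 0 = false from nbne.2 h0, cond_false] at h
  have e : eFT.getD 0 (Tab.l 0) = eF0 := rfl
  rw [e, h2, (e_row ((h1 h0).trans hi)).2.1] at h
  exact ⟨h1 h0, h.symm⟩

theorem acts_hg (s : Bool) : Acts (wM (hg s)) (hgP s) :=
  (acts_word _).congr fun i hi => nbeq.1 (all_range (all_bool hg_chk s) hi)

theorem hrow {k : ℕ} (hk : k < 114) : (k ≠ 0 → get hparT k < k) ∧ get (hT k) 0 = 0 ∧
    ∀ i < 1540, get (hT k) i = bif Nat.beq k 0 then i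
      else hgP (Nat.beq (get4 hlabT k) 1) (get (hT (get hparT k)) i) := by
  have h := h_chk hk
  simp only [hChk, Bool.and_eq_true, Bool.or_eq_true, decide_eq_true_eq, nbeq, List.all_eq_true, List.mem_range] at h
  exact ⟨fun h0 => h.1.1.resolve_left h0, h.1.2, h.2⟩

theorem exists_h : ∀ k, k < 114 → ∃ g : GL7, Acts g (get (hT k)) := by
  intro k
  induction k using Nat.strong_induction_on with
  | h k ih =>
    intro hk
    obtain ⟨h1, -, h3⟩ := hrow hk
    by_cases h0 : k = 0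
    · subst h0
      exact ⟨1, acts_one.congr fun i hi => (h3 i hi).symm⟩
    · obtain ⟨g, hg'⟩ := ih _ (h1 h0) ((h1 h0).trans hk)
      refine ⟨_, ((acts_hg (Nat.beq (get4 hlabT k) 1)).mul hg').congr fun i hi => ?_⟩
      rw [h3 i hi, show Nat.beq k 0 = false from nbne.2 h0]
      rfl

/-- elements of the point stabiliser -/
noncomputable def hM (k : ℕ) : GL7 := if hk : k < 114 then (exists_h k hk).choose else 1

theorem acts_hM {k : ℕ} (hk : k < 114) : Acts (hM k) (get (hT k)) := by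
  rw [hM, dif_pos hk]
  exact (exists_h k hk).choose_spec

theorem hM_zero : hM 0 = 1 :=
  (acts_hM (by norm_num)).ext acts_one fun f hf => by
    rw [(hrow (k := 0) (by norm_num)).2.2 f (frame_lt f hf)]; rfl

/-- the element with given coordinates -/
noncomputable def xM (i k : ℕ) : GL7 := eM fuel i * hM k

theorem acts_xM (i : ℕ) {k : ℕ} (hk : k < 114) : Acts (xM i k) (fun f => eP fuel i (get (hT k) f)) :=
  (acts_eM fuel i).mul (acts_hM hk)

theorem xM_zero_pt {i k : ℕ} (hi : i < 1540) (hk : k < 114) : eP fuel i (get (hT k) 0) = i := by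
  rw [(hrow hk).2.1, eP_zero_pt hi]

theorem hcl_spec (s : Bool) {k : ℕ} (hk : k < 114) : hcl s k < 114 ∧ wM (hg s) * hM k = hM (hcl s k) := by
  have h := hcl_chk hk
  rw [hclChk] at h
  have h := all_bool h s
  simp only [Bool.and_eq_true, decide_eq_true_eq] at h
  exact ⟨h.1, ((acts_hg s).mul (acts_hM hk)).ext (acts_hM h.1) (feq_eq h.2)⟩

theorem hM_par {k : ℕ} (hk : k < 114) (h0 : k ≠ 0) :
    hM k = wM (hg (Nat.beq (get4 hlabT k) 1)) * hM (get hparT k) := by
  obtain ⟨h1, -, h3⟩ := hrow hk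
  refine (acts_hM hk).ext ((acts_hg _).mul (acts_hM ((h1 h0).trans hk))) fun f hf => ?_
  rw [h3 f (frame_lt f hf), show Nat.beq k 0 = false from nbne.2 h0]
  rfl

theorem hM_mul : ∀ m, m < 114 → ∀ k, k < 114 → ∃ l < 114, hM m * hM k = hM l := by
  intro m
  induction m using Nat.strong_induction_on with
  | h m ih =>
    intro hm k hk
    by_cases h0 : m = 0
    · subst h0
      exact ⟨k, hk, by rw [hM_zero, one_mul]⟩
    · obtain ⟨h1, -, -⟩ := hrow hm
      obtain ⟨l, hl, e⟩ := ih _ (h1 h0) ((h1 h0).trans hm) k hk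
      obtain ⟨hl', e'⟩ := hcl_spec (Nat.beq (get4 hlabT m) 1) hl
      exact ⟨_, hl', by rw [hM_par hm h0, mul_assoc, e, e']⟩

theorem frame_mem {f : ℕ} (hf : f ∈ frame) : ∃ n < 8, frame.getD n 0 = f := by
  have key : ∀ f ∈ frame, ∃ n < 8, frame.getD n 0 = f := by decide +kernel
  exact key f hf

theorem gen_mul_xM (s : Bool) {i k : ℕ} (hi : i < 1540) (hk : k < 114) :
    ∃ j < 1540, ∃ l < 114, gM s * xM i k = xM j l := by
  have h := schreier_chk hi
  rw [sChk] at h
  have h := all_bool h s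
  simp only [Bool.and_eq_true, decide_eq_true_eq, List.all_eq_true, List.mem_range, nbeq] at h
  have hj : gP s i < 1540 := ((acts_gen s).2.2 i hi).1
  have e : gM s * eM fuel i = xM (gP s i) (sk s i) := by
    refine ((acts_gen s).mul (acts_eM fuel i)).ext (acts_xM _ h.1) fun f hf => ?_
    obtain ⟨n, hn, rfl⟩ := frame_mem hf
    rw [eP_frame fuel i hi.le hi n hn, h.2 n hn]
    by_cases h0 : sk s i = 0
    · rw [h0, show Nat.beq 0 0 = true from rfl, cond_true, (hrow (k := 0) (by norm_num)).2.2 _ (frame_lt _ hf)]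
      exact (eP_frame fuel _ hj.le hj n hn).symm
    · rw [show Nat.beq (sk s i) 0 = false from nbne.2 h0, cond_false]
  obtain ⟨l, hl, el⟩ := hM_mul _ h.1 k hk
  exact ⟨gP s i, hj, l, hl, by rw [xM, ← mul_assoc, e, xM, mul_assoc, el, xM]⟩

theorem exists_xM {g : GL7} (hg : g ∈ J1) : ∃ i < 1540, ∃ k < 114, g = xM i k := by
  have step : ∀ (s : Bool) (n : ℕ) (g : GL7), (∃ i < 1540, ∃ k < 114, g = xM i k) →
      ∃ i < 1540, ∃ k < 114, gM s ^ n * g = xM i k := by
    intro s n g hg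
    induction n with
    | zero => simpa using hg
    | succ n ih =>
      obtain ⟨i, hi, k, hk, e⟩ := ih
      obtain ⟨j, hj, l, hl, e'⟩ := gen_mul_xM s hi hk
      exact ⟨j, hj, l, hl, by rw [pow_succ', mul_assoc, e, e']⟩
  rw [J1] at hg
  induction hg using Subgroup.closure_induction_left with
  | one => exact ⟨0, by norm_num, 0, by norm_num, by rw [xM, eM_at_zero, hM_zero, one_mul]⟩
  | mul_left x hx y _ ih =>
    rcases hx with rfl | rfl
    · simpa [gM] using step false 1 y ih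
    · simpa [gM] using step true 1 y ih
  | inv_mul_cancel x hx y _ ih =>
    rcases hx with rfl | rfl
    · rw [show jankoX⁻¹ = gM false ^ 6 from inv_eq_of_mul_eq_one_left (by rw [show gM false = jankoX from rfl, ← pow_succ, jankoX_pow])]
      exact step false 6 y ih
    · rw [show jankoY⁻¹ = gM true ^ 4 from inv_eq_of_mul_eq_one_left (by rw [show gM true = jankoY from rfl, ← pow_succ, jankoY_pow])]
      exact step true 4 y ih

theorem hb_inj {k l : ℕ} (hk : k < 114) (hl : l < 114) (h : get (hT k) bpt = get (hT l) bpt) : k = l := by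
  have key : ∀ a b, b < a → a < 114 → get (hT a) bpt ≠ get (hT b) bpt := fun a b hba ha => by
    simpa [nbne] using all_range (all_range hb_chk ha) hba
  rcases lt_trichotomy k l with e | e | e
  · exact absurd h.symm (key l k e hl)
  · exact e
  · exact absurd h (key k l e hk)

theorem bpt_lt : bpt < 1540 := by decide +kernel

theorem xM_inj {i j k l : ℕ} (hi : i < 1540) (hj : j < 1540) (hk : k < 114) (hl : l < 114)
    (h : xM i k = xM j l) : i = j ∧ k = l := by
  have e := Acts.unique (acts_xM i hk) (h ▸ acts_xM j hl) (show 0 < 1540 by norm_num)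
  rw [xM_zero_pt hi hk, xM_zero_pt hj hl] at e
  subst e
  have e' : hM k = hM l := mul_left_cancel h
  exact ⟨rfl, hb_inj hk hl (Acts.unique (acts_hM hk) (e' ▸ acts_hM hl) bpt_lt)⟩

theorem card_J1 : Nat.card J1 = 175560 := by
  let f : Fin 1540 × Fin 114 → J1 := fun p => ⟨xM p.1 p.2, (acts_xM p.1 p.2.isLt).1⟩
  have hf : Function.Bijective f := by
    refine ⟨fun p q e => ?_, fun g => ?_⟩
    · obtain ⟨h1, h2⟩ := xM_inj p.1.isLt q.1.isLt p.2.isLt q.2.isLt (congrArg Subtype.val e)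
      exact Prod.ext (Fin.ext h1) (Fin.ext h2)
    · obtain ⟨i, hi, k, hk, e⟩ := exists_xM g.2
      exact ⟨(⟨i, hi⟩, ⟨k, hk⟩), Subtype.ext e.symm⟩
  rw [← Nat.card_congr (Equiv.ofBijective f hf), Nat.card_prod, Nat.card_fin, Nat.card_fin]

theorem Acts.inj {h : GL7} {τ : ℕ → ℕ} (hh : Acts h τ) {i j : ℕ} (hi : i < 1540) (hj : j < 1540)
    (e : τ i = τ j) : i = j := by
  obtain ⟨-, c, hc, ec⟩ := hh.2.2 i hi
  obtain ⟨-, d, hd, ed⟩ := hh.2.2 j hj
  refine vv_inj hi hj (c := d * c⁻¹) (mul_ne_zero hd (inv_ne_zero hc)) ?_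
  have h0 : (h : M7) *ᵥ ((d * c⁻¹) • vv i) = (h : M7) *ᵥ vv j := by
    rw [Matrix.mulVec_smul, ec, ed, smul_smul, mul_assoc, inv_mul_cancel₀ hc, mul_one, e]
  have h1 := congrArg (fun v => ((h⁻¹ : GL7) : M7) *ᵥ v) h0
  simpa only [Matrix.mulVec_mulVec, Units.inv_mul, Matrix.one_mulVec] using h1

/-- Two points determine an element. -/
theorem Acts.ext2 {g h : GL7} {σ τ : ℕ → ℕ} (hg : Acts g σ) (hh : Acts h τ) (he : ∀ f ∈ base2, σ f = τ f) :
    g = h := by
  obtain ⟨i, hi, k, hk, e⟩ := exists_xM (mul_mem (inv_mem hh.1) hg.1)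
  have hge : g = h * xM i k := by rw [← e, mul_inv_cancel_left]
  have hu : ∀ f < 1540, σ f = τ (eP fuel i (get (hT k) f)) := fun f hf =>
    hg.unique (by rw [hge]; exact hh.mul (acts_xM i hk)) hf
  have h0 := (hu 0 (by norm_num)).symm.trans (he 0 (by simp [base2]))
  rw [xM_zero_pt hi hk] at h0
  obtain rfl := hh.inj hi (by norm_num) h0
  have hb := (hu bpt bpt_lt).symm.trans (he bpt (by simp [base2]))
  have hlt := ((acts_hM hk).2.2 bpt bpt_lt).1
  have hid : ∀ f < 1540, eP fuel 0 f = f := fun f hf =>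
    (acts_eM fuel 0).unique (τ := id) (by rw [eM_at_zero]; exact acts_one) hf
  rw [hid _ hlt] at hb
  have hk0 : k = 0 := hb_inj hk (by norm_num) <| by
    rw [hh.inj hlt bpt_lt hb, (hrow (k := 0) (by norm_num)).2.2 bpt bpt_lt]
    rfl
  rw [hge, hk0, xM, eM_at_zero, hM_zero, one_mul, mul_one]

theorem exists_acts {g : GL7} (hg : g ∈ J1) : ∃ σ, Acts g σ := by
  obtain ⟨i, -, k, hk, rfl⟩ := exists_xM hg
  exact ⟨_, acts_xM i hk⟩

/-- the permutation of the points given by an element -/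
noncomputable def pm (g : J1) (i : ℕ) : ℕ := (exists_acts g.2).choose i

theorem acts_pm (g : J1) : Acts (g : GL7) (pm g) := (exists_acts g.2).choose_spec

noncomputable instance pointAction : MulAction J1 (Fin 1540) where
  smul g i := ⟨pm g i, ((acts_pm g).2.2 i i.isLt).1⟩
  one_smul i := Fin.ext ((acts_pm 1).unique acts_one i.isLt)
  mul_smul g h i := Fin.ext ((acts_pm (g * h)).unique ((acts_pm g).mul (acts_pm h)) i.isLt)

theorem smul_val {g : J1} {σ : ℕ → ℕ} (h : Acts (g : GL7) σ) (i : Fin 1540) : ((g • i : Fin 1540) : ℕ) = σ i :=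
  (acts_pm g).unique h i.isLt

theorem eq_one_of_fix {g : J1} (h : ∀ f : Fin 1540, g • f = f) : g = 1 :=
  Subtype.ext ((acts_pm g).ext acts_one fun f hf =>
    congrArg Fin.val (h ⟨f, frame_lt f hf⟩))

end Cfsg.Agent.J1Cert
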