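import Cfsg.Agent.Lib.Spor.J1.Defs

/-! Checked facts: orders, centraliser, block closures. -/

set_option autoImplicit false
set_option maxHeartbeats 4000000
set_option maxRecDepth 10000

namespace Cfsg.Agent.J1Cert

/-- check of a transversal table -/
noncomputable def repChk (o : Nat) : Bool := decide (get repT o < 1540) &&
  (List.range 1540).all fun i => Nat.beq (get (rT o) i) (eP fuel (get repT o) i)

/-- check of the orders at one representative -/
noncomputable def ordChk (o : Nat) : Bool := (List.range 114).all fun k =>
  decide (get4 ordT (o * 114 + k) < 10) &&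
  base2.all fun f => Nat.beq (itr (xP o k) (ordList.getD (get4 ordT (o * 114 + k)) 0) f) f

theorem rep_chk0 : ((List.range 6).all fun d => repChk (0 + d)) = true := by decide +kernel

theorem rep_chk1 : ((List.range 6).all fun d => repChk (6 + d)) = true := by decide +kernel

theorem rep_chk2 : ((List.range 6).all fun d => repChk (12 + d)) = true := by decide +kernel

theorem rep_chk3 : ((List.range 3).all fun d => repChk (18 + d)) = true := by decide +kernel

theorem rep_chk {i : Nat} (hi : i < 21) : repChk i = true := by
  by_cases h0 : i < 6
  · have h := List.all_eq_true.1 rep_chk0 (i - 0) (List.mem_range.2 (by omega)); rwa [show 0 + (i - 0) = i by omega] at h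
  by_cases h1 : i < 12
  · have h := List.all_eq_true.1 rep_chk1 (i - 6) (List.mem_range.2 (by omega)); rwa [show 6 + (i - 6) = i by omega] at h
  by_cases h2 : i < 18
  · have h := List.all_eq_true.1 rep_chk2 (i - 12) (List.mem_range.2 (by omega)); rwa [show 12 + (i - 12) = i by omega] at h
  have h := List.all_eq_true.1 rep_chk3 (i - 18) (List.mem_range.2 (by omega)); rwa [show 18 + (i - 18) = i by omega] at h

theorem ord_chk0 : ((List.range 4).all fun d => ordChk (0 + d)) = true := by decide +kernel

theorem ord_chk1 : ((List.range 4).all fun d => ordChk (4 + d)) = true := by decide +kernel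

theorem ord_chk2 : ((List.range 4).all fun d => ordChk (8 + d)) = true := by decide +kernel

theorem ord_chk3 : ((List.range 4).all fun d => ordChk (12 + d)) = true := by decide +kernel

theorem ord_chk4 : ((List.range 4).all fun d => ordChk (16 + d)) = true := by decide +kernel

theorem ord_chk5 : ((List.range 1).all fun d => ordChk (20 + d)) = true := by decide +kernel

theorem ord_chk {i : Nat} (hi : i < 21) : ordChk i = true := by
  by_cases h0 : i < 4
  · have h := List.all_eq_true.1 ord_chk0 (i - 0) (List.mem_range.2 (by omega)); rwa [show 0 + (i - 0) = i by omega] at h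
  by_cases h1 : i < 8
  · have h := List.all_eq_true.1 ord_chk1 (i - 4) (List.mem_range.2 (by omega)); rwa [show 4 + (i - 4) = i by omega] at h
  by_cases h2 : i < 12
  · have h := List.all_eq_true.1 ord_chk2 (i - 8) (List.mem_range.2 (by omega)); rwa [show 8 + (i - 8) = i by omega] at h
  by_cases h3 : i < 16
  · have h := List.all_eq_true.1 ord_chk3 (i - 12) (List.mem_range.2 (by omega)); rwa [show 12 + (i - 12) = i by omega] at h
  by_cases h4 : i < 20
  · have h := List.all_eq_true.1 ord_chk4 (i - 16) (List.mem_range.2 (by omega)); rwa [show 16 + (i - 16) = i by omega] at h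
  have h := List.all_eq_true.1 ord_chk5 (i - 20) (List.mem_range.2 (by omega)); rwa [show 20 + (i - 20) = i by omega] at h

theorem wit_chk : ((List.range 10).all fun j => decide (ordWit.getD j 0 / 114 < 21) &&
    Nat.beq (get4 ordT (ordWit.getD j 0)) j &&
    (List.range (ordList.getD j 0)).all fun d => Nat.beq d 0 || !(Nat.beq (ordList.getD j 0 % d) 0) ||
      base2.any fun f => !(Nat.beq (itr (xP (ordWit.getD j 0 / 114) (ordWit.getD j 0 % 114)) d f) f)) = true := by
  decide +kernel

theorem fix_chk : ((List.range 1540).all fun i => !(Nat.beq (tP i) i) ||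
    (List.range 20).any fun fi => Nat.beq (get fixT fi) i) = true := by decide +kernel

/-- completeness of the list of the centraliser over one fixed point -/
noncomputable def centChk (fi : Nat) : Bool := (List.range 114).all fun k =>
  !(feq base2 (fun f => tP (eP fuel (get fixT fi) (get (hT k) f))) (fun f => eP fuel (get fixT fi) (get (hT k) (tP f)))) ||
    (List.range 120).any fun m => Nat.beq (get cPtT m) (get fixT fi) && Nat.beq (get cHT m) k

theorem cent_chk0 : ((List.range 5).all fun d => centChk (0 + d)) = true := by decide +kernel

theorem cent_chk1 : ((List.range 5).all fun d => centChk (5 + d)) = true := by decide +kernel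

theorem cent_chk2 : ((List.range 5).all fun d => centChk (10 + d)) = true := by decide +kernel

theorem cent_chk3 : ((List.range 5).all fun d => centChk (15 + d)) = true := by decide +kernel

theorem cent_chk {i : Nat} (hi : i < 20) : centChk i = true := by
  by_cases h0 : i < 5
  · have h := List.all_eq_true.1 cent_chk0 (i - 0) (List.mem_range.2 (by omega)); rwa [show 0 + (i - 0) = i by omega] at h
  by_cases h1 : i < 10
  · have h := List.all_eq_true.1 cent_chk1 (i - 5) (List.mem_range.2 (by omega)); rwa [show 5 + (i - 5) = i by omega] at h
  by_cases h2 : i < 15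
  · have h := List.all_eq_true.1 cent_chk2 (i - 10) (List.mem_range.2 (by omega)); rwa [show 10 + (i - 10) = i by omega] at h
  have h := List.all_eq_true.1 cent_chk3 (i - 15) (List.mem_range.2 (by omega)); rwa [show 15 + (i - 15) = i by omega] at h

theorem cmem_chk : ((List.range 120).all fun m => decide (get cPtT m < 1540) && decide (get cHT m < 114) &&
    feq base2 (fun f => tP (cP m f)) (fun f => cP m (tP f))) = true := by decide +kernel

theorem ccl_chk : ((List.range 120).all fun m => (Nat.beq m 0 || (decide (get cparT m < m) &&
      Nat.beq (ccl (Nat.beq (get4 clabT m) 1) (get cparT m)) m)) &&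
    [false, true].all fun s => decide (ccl s m < 120) &&
      feq base2 (fun f => cP (cgn s) (cP m f)) (cP (ccl s m))) = true := by decide +kernel

theorem path_chk : ((List.range 20).all fun j =>
    ((paths.getD j ([], [])).1.all fun k => decide (k < 114)) && ((paths.getD j ([], [])).2.all fun k => decide (k < 114)) &&
    Nat.beq (walk (j + 1) (paths.getD j ([], [])).1 0) (get gT0 0) &&
    Nat.beq (walk (j + 1) (paths.getD j ([], [])).2 0) (get gT1 0)) = true := by decide +kernel

end Cfsg.Agent.J1Cert
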