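import Mathlib
import Cfsg.Agent.Lib.Spor.J1.Basic
import Cfsg.Agent.Lib.Spor.J1.CheckExtra

/-! `J1` is simple, its element orders, and the centraliser of an involution. -/

set_option autoImplicit false

namespace Cfsg.Agent.J1Cert

open Cfsg Cfsg.Spor Matrix

local notation "GL7" => GL (Fin 7) (ZMod 11)

/-- transversal element inside `J1` -/
noncomputable def eJ (i : ℕ) : J1 := ⟨eM fuel i, (acts_eM fuel i).1⟩

/-- stabiliser element inside `J1` -/
noncomputable def hJ (k : ℕ) : J1 :=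
  if hk : k < 114 then ⟨hM k, (acts_hM hk).1⟩ else 1

theorem hJ_val {k : ℕ} (hk : k < 114) : ((hJ k : J1) : GL7) = hM k := by rw [hJ, dif_pos hk]

theorem eJ_smul (x : Fin 1540) (r : Fin 1540) : ((eJ x • r : Fin 1540) : ℕ) = eP fuel x r :=
  smul_val (g := eJ x) (acts_eM fuel x) r

theorem hJ_smul {k : ℕ} (hk : k < 114) (r : Fin 1540) : ((hJ k • r : Fin 1540) : ℕ) = get (hT k) r :=
  smul_val (g := hJ k) (by rw [hJ_val hk]; exact acts_hM hk) r

theorem eJ_zero_pt (x : Fin 1540) : eJ x • (0 : Fin 1540) = x :=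
  Fin.ext (by rw [eJ_smul]; exact eP_zero_pt x.isLt)

theorem hJ_zero_pt {k : ℕ} (hk : k < 114) : hJ k • (0 : Fin 1540) = 0 :=
  Fin.ext (by rw [hJ_smul hk]; exact (hrow hk).2.1)

theorem conj_row (i : Fin 1540) : get kcT i < 114 ∧ get orbT i < 21 ∧
    get (hT (get kcT i)) i = get repT (get orbT i) ∧ ((i : ℕ) = 0 ∨ get orbT i ≠ 0) := by
  have h := all_range conj_chk i.isLt
  simp only [Bool.and_eq_true, Bool.or_eq_true, decide_eq_true_eq, nbeq, Bool.not_eq_true', nbne] at h
  exact ⟨h.1.1.1, h.1.1.2, h.1.2, h.2⟩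

theorem rep_row {o : ℕ} (ho : o < 21) : get repT o < 1540 ∧
    ∀ i < 1540, get (rT o) i = eP fuel (get repT o) i := by
  have h := rep_chk ho
  simp only [repChk, Bool.and_eq_true, decide_eq_true_eq, List.all_eq_true, List.mem_range, nbeq] at h
  exact h

theorem normal_eq_top (N : Subgroup J1) [hN : N.Normal] (hne : N ≠ ⊥) : N = ⊤ := by
  classical
  let InB : ℕ → Prop := fun y => ∃ n ∈ N, ((n • (0 : Fin 1540) : Fin 1540) : ℕ) = y
  have hzero : InB 0 := ⟨1, one_mem _, by rw [one_smul]; rfl⟩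
  have mapB : ∀ g : J1, InB ((g • (0 : Fin 1540) : Fin 1540) : ℕ) → ∀ y : Fin 1540, InB y → InB ((g • y : Fin 1540) : ℕ) := by
    rintro g ⟨m, hm, hm0⟩ y ⟨n, hn, hn0⟩
    refine ⟨g * n * g⁻¹ * m, mul_mem (hN.conj_mem n hn g) hm, congrArg Fin.val ?_⟩
    rw [mul_smul, Fin.ext hm0, mul_smul, inv_smul_smul, mul_smul, Fin.ext hn0]
  have hstab : ∀ k < 114, ∀ y : Fin 1540, InB y → InB ((hJ k • y : Fin 1540) : ℕ) := fun k hk =>
    mapB (hJ k) (by rw [hJ_zero_pt hk]; exact hzero)
  obtain ⟨r, hr, hr0⟩ : ∃ r : Fin 1540, InB r ∧ r ≠ 0 := by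
    by_contra hc
    push Not at hc
    refine hne ((Subgroup.eq_bot_iff_forall _).2 fun n hn => eq_one_of_fix fun x => ?_)
    have := hc (((eJ x)⁻¹ * n * eJ x) • (0 : Fin 1540)) ⟨_, by simpa using hN.conj_mem n hn (eJ x)⁻¹, rfl⟩
    rw [mul_smul, mul_smul, eJ_zero_pt, inv_smul_eq_iff, eJ_zero_pt] at this
    exact this
  obtain ⟨hk, ho, hrep, hro⟩ := conj_row r
  have ho0 : get orbT r ≠ 0 := hro.resolve_left fun e => hr0 (Fin.ext e)
  set o := get orbT r
  obtain ⟨hq, hR⟩ := rep_row ho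
  have hqB : InB (get repT o) := by
    rw [← hrep, ← hJ_smul hk]
    exact hstab _ hk r hr
  have hmove : ∀ k < 114, ∀ y : ℕ, y < 1540 → InB y → xP o k y < 1540 ∧ InB (xP o k y) := by
    intro k hk y hy hyB
    have e : xP o k y = ((eJ (get repT o) • hJ k • (⟨y, hy⟩ : Fin 1540) : Fin 1540) : ℕ) := by
      have hlt := ((acts_hM hk).2.2 y hy).1
      rw [show (eJ (get repT o) • hJ k • (⟨y, hy⟩ : Fin 1540) : Fin 1540) =
        eJ ((⟨get repT o, hq⟩ : Fin 1540) : ℕ) • hJ k • (⟨y, hy⟩ : Fin 1540) from rfl, eJ_smul, hJ_smul hk]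
      exact hR _ hlt
    rw [e]
    refine ⟨Fin.isLt _, mapB _ ?_ _ (hstab k hk _ hyB)⟩
    rw [show eJ (get repT o) • (0 : Fin 1540) = (⟨get repT o, hq⟩ : Fin 1540) from eJ_zero_pt ⟨_, hq⟩]
    exact hqB
  have hwalk : ∀ p : List ℕ, (∀ k ∈ p, k < 114) → ∀ y < 1540, InB y → InB (walk o p y) := by
    intro p
    induction p with
    | nil => exact fun _ y _ h => h
    | cons k p ih =>
      intro hp y hy hyB
      obtain ⟨h1, h2⟩ := hmove k (hp k (by simp)) y hy hyB
      exact ih (fun l hl => hp l (by simp [hl])) _ h1 h2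
  have hp := all_range path_chk (show o - 1 < 20 by omega)
  rw [show o - 1 + 1 = o by omega] at hp
  simp only [Bool.and_eq_true, List.all_eq_true, decide_eq_true_eq, nbeq] at hp
  have hgB : ∀ (s : Bool) (y : Fin 1540), InB y → InB (gP s y) := by
    intro s y hy
    rw [← smul_val (g := ⟨gM s, (acts_gen s).1⟩) (acts_gen s) y]
    refine mapB _ ?_ y hy
    rw [smul_val (g := ⟨gM s, (acts_gen s).1⟩) (acts_gen s)]
    cases s
    · have := hwalk _ hp.1.1.1 0 (by norm_num) hzero
      rw [hp.1.2] at this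
      exact this
    · have := hwalk _ hp.1.1.2 0 (by norm_num) hzero
      rw [hp.2] at this
      exact this
  have hBall : ∀ y, y < 1540 → InB y := by
    intro y
    induction y using Nat.strong_induction_on with
    | h y ih =>
      intro hy
      by_cases h0 : y = 0
      · exact h0 ▸ hzero
      obtain ⟨h1, h2⟩ := par_step hy h0
      exact h2 ▸ hgB _ ⟨_, h1.trans hy⟩ (ih _ h1 (h1.trans hy))
  have h1540 : 1540 ∣ Nat.card N := by
    have ht : MulAction.orbit N (0 : Fin 1540) = Set.univ := Set.eq_univ_of_forall fun y => by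
      obtain ⟨m, hm, e⟩ := hBall y y.isLt
      exact ⟨⟨m, hm⟩, Fin.ext e⟩
    have h := MulAction.index_stabilizer N (0 : Fin 1540)
    rw [ht, Set.ncard_univ, Nat.card_fin] at h
    rw [← h]
    exact Subgroup.index_dvd_card _
  have hidx : N.index ∣ 114 := by
    obtain ⟨c, hc⟩ := h1540
    have h := Subgroup.card_mul_index N
    rw [card_J1, hc, mul_assoc] at h
    exact ⟨c, by rw [mul_comm]; omega⟩
  have hgen : ∀ (s : Bool), (⟨gM s, (acts_gen s).1⟩ : J1) ∈ N := by
    intro s
    set x : J1 := ⟨gM s, (acts_gen s).1⟩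
    have hx : x ^ (bif s then 5 else 7) = 1 := by
      cases s
      · exact Subtype.ext jankoX_pow
      · exact Subtype.ext jankoY_pow
    have h1 : orderOf (QuotientGroup.mk' N x) ∣ (bif s then 5 else 7) :=
      orderOf_dvd_of_pow_eq_one (by rw [← map_pow, hx, map_one])
    have h2 : orderOf (QuotientGroup.mk' N x) ∣ 114 :=
      ((Subgroup.index_eq_card N) ▸ orderOf_dvd_natCard _ : _ ∣ N.index).trans hidx
    have h3 : orderOf (QuotientGroup.mk' N x) = 1 := Nat.dvd_one.1 <| by
      refine (Nat.dvd_gcd h1 h2).trans ?_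
      cases s <;> norm_num
    exact (QuotientGroup.eq_one_iff x).1 (orderOf_eq_one_iff.1 h3)
  rw [eq_top_iff]
  intro x _
  have hle : (J1 : Subgroup GL7) ≤ N.map J1.subtype := by
    refine (Subgroup.closure_le _).2 ?_
    rintro g (rfl | rfl)
    · exact ⟨_, hgen false, rfl⟩
    · exact ⟨_, hgen true, rfl⟩
  obtain ⟨y, hy, e⟩ := Subgroup.mem_map.1 (hle x.2)
  exact (Subtype.ext e : y = x) ▸ hy

theorem simple_J1 : IsSimpleGroup J1 := by
  haveI : Nontrivial J1 := Finite.one_lt_card_iff_nontrivial.1 (by rw [card_J1]; norm_num)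
  exact ⟨fun N hN => (em (N = ⊥)).imp id fun h => normal_eq_top N (hN := hN) h⟩

theorem iterate_fix {σ : ℕ → ℕ} {n : ℕ} {g : GL7} (hg : Acts g σ) : Acts (g ^ n) (itr σ n) := by
  induction n with
  | zero => rw [pow_zero]; exact acts_one
  | succ n ih =>
    rw [pow_succ']
    exact (hg.mul ih).congr fun i _ => rfl

theorem acts_rep {o k : ℕ} (ho : o < 21) (hk : k < 114) : get repT o < 1540 ∧ Acts (xM (get repT o) k) (xP o k) := by
  obtain ⟨h1, h2⟩ := rep_row ho
  exact ⟨h1, (acts_xM _ hk).congr fun f hf => (h2 _ ((acts_hM hk).2.2 f hf).1).symm⟩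

/-- Element orders of `J1`. -/
theorem range_orderOf : Set.range (orderOf : J1 → ℕ) = {1, 2, 3, 5, 6, 7, 10, 11, 15, 19} := by
  ext n
  constructor
  · rintro ⟨⟨g, hg⟩, rfl⟩
    obtain ⟨i, hi, k, hk, rfl⟩ := exists_xM hg
    obtain ⟨hc, ho, hrep, -⟩ := conj_row ⟨i, hi⟩
    simp only at hc ho hrep
    set c := hM (get kcT i)
    have hJ1 : c * xM i k * c⁻¹ ∈ J1 := mul_mem (mul_mem (acts_hM hc).1 hg) (inv_mem (acts_hM hc).1)
    obtain ⟨j, hj, l, hl, e⟩ := exists_xM hJ1
    have e' : c * xM i k = xM j l * c := by rw [← e, inv_mul_cancel_right]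
    have hj' : j = get repT (get orbT i) := by
      have h := Acts.unique ((acts_hM hc).mul (acts_xM i hk))
        ((congrArg (fun x => Acts x (fun f => eP fuel j (get (hT l) (get (hT (get kcT i)) f)))) e').mpr
          ((acts_xM j hl).mul (acts_hM hc))) (show 0 < 1540 by norm_num)
      simp only [xM_zero_pt hi hk, (hrow hc).2.1, xM_zero_pt hj hl, hrep] at h
      exact h.symm
    subst hj'
    obtain ⟨-, hx⟩ := acts_rep ho hl
    have h := all_range (ord_chk ho) hl
    simp only [Bool.and_eq_true, decide_eq_true_eq] at h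
    have hpow : xM (get repT (get orbT i)) l ^ ordList.getD (get4 ordT (get orbT i * 114 + l)) 0 = 1 :=
      (iterate_fix hx).ext2 acts_one fun f hf => nbeq.1 (List.all_eq_true.1 h.2 f hf)
    have hord : orderOf (xM i k) ∣ ordList.getD (get4 ordT (get orbT i * 114 + l)) 0 := by
      rw [← orderOf_injective (MulAut.conj c).toMonoidHom (MulAut.conj c).injective]
      show orderOf (c * xM i k * c⁻¹) ∣ _
      rw [e]
      exact orderOf_dvd_of_pow_eq_one hpow
    have hmem : ordList.getD (get4 ordT (get orbT i * 114 + l)) 0 ∈ ordList := by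
      have key : ∀ j < 10, ordList.getD j 0 ∈ ordList := by decide
      exact key _ h.1
    have key : ∀ m ∈ ordList, ∀ d ∈ Nat.divisors m, d ∈ ordList := by decide
    have hne : ∀ m ∈ ordList, m ≠ 0 := by decide
    have := key _ hmem _ (Nat.mem_divisors.2 ⟨hord, hne _ hmem⟩)
    rw [Subgroup.orderOf_mk]
    simpa [ordList] using this
  · intro hn
    obtain ⟨j, hj, rfl⟩ : ∃ j < 10, n = ordList.getD j 0 := by
      simp only [Set.mem_insert_iff, Set.mem_singleton_iff] at hn
      rcases hn with rfl | rfl | rfl | rfl | rfl | rfl | rfl | rfl | rfl | rfl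
      exacts [⟨0, by norm_num, rfl⟩, ⟨1, by norm_num, rfl⟩, ⟨2, by norm_num, rfl⟩, ⟨3, by norm_num, rfl⟩,
        ⟨4, by norm_num, rfl⟩, ⟨5, by norm_num, rfl⟩, ⟨6, by norm_num, rfl⟩, ⟨7, by norm_num, rfl⟩,
        ⟨8, by norm_num, rfl⟩, ⟨9, by norm_num, rfl⟩]
    have hw := all_range wit_chk hj
    simp only [Bool.and_eq_true, decide_eq_true_eq, nbeq] at hw
    obtain ⟨⟨ho, hidx⟩, hmin⟩ := hw
    set w := ordWit.getD j 0
    have hk : w % 114 < 114 := Nat.mod_lt _ (by norm_num)
    obtain ⟨-, hx⟩ := acts_rep ho hk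
    refine ⟨⟨_, hx.1⟩, ?_⟩
    rw [Subgroup.orderOf_mk]
    have h := all_range (ord_chk ho) hk
    simp only [Bool.and_eq_true, decide_eq_true_eq] at h
    rw [show w / 114 * 114 + w % 114 = w by rw [mul_comm]; exact Nat.div_add_mod w 114, hidx] at h
    have hpow : xM (get repT (w / 114)) (w % 114) ^ ordList.getD j 0 = 1 :=
      (iterate_fix hx).ext2 acts_one fun f hf => nbeq.1 (List.all_eq_true.1 h.2 f hf)
    have hn0 : 0 < ordList.getD j 0 := by
      have key : ∀ j < 10, 0 < ordList.getD j 0 := by decide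
      exact key j hj
    have hdvd := orderOf_dvd_of_pow_eq_one hpow
    by_contra hne
    have hlt : orderOf (xM (get repT (w / 114)) (w % 114)) < ordList.getD j 0 :=
      lt_of_le_of_ne (Nat.le_of_dvd hn0 hdvd) hne
    have h' := all_range hmin hlt
    simp only [Bool.or_eq_true, nbeq, Bool.not_eq_true', nbne, ne_eq, List.any_eq_true] at h'
    rcases h' with (e | e) | ⟨f, hf, e⟩
    · exact absurd e (Nat.pos_of_dvd_of_pos hdvd hn0).ne'
    · exact e (Nat.mod_eq_zero_of_dvd hdvd)
    · have hf' : f < 1540 := by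
        have key : ∀ f ∈ base2, f < 1540 := by decide +kernel
        exact key f hf
      exact e (((iterate_fix (n := orderOf (xM (get repT (w / 114)) (w % 114))) hx)).unique (τ := id)
        (by rw [pow_orderOf_eq_one]; exact acts_one) hf')

/-- the involution -/
noncomputable def tJ : J1 := hJ 1

theorem acts_tJ : Acts (tJ : GL7) tP := by rw [tJ, hJ_val (by norm_num)]; exact acts_hM (by norm_num)

theorem orderOf_tJ : orderOf tJ = 2 := by
  refine orderOf_eq_prime (Subtype.ext ?_) fun e => ?_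
  · rw [sq]
    exact (acts_tJ.mul acts_tJ).ext acts_one (feq_eq (L := frame) (σ := fun i => tP (tP i)) (τ := id) (by decide +kernel))
  · have h : ∀ f ∈ frame, tP f = f := fun f hf =>
      acts_tJ.unique (τ := id) (by rw [e]; exact acts_one) (frame_lt f hf)
    exact absurd h (by decide +kernel)

/-- the target -/
abbrev Z2A5 := Multiplicative (ZMod 2) × alternatingGroup (Fin 5)

/-- images of the generators -/
def pgen : Bool → Z2A5
  | false => (Multiplicative.ofAdd 1, ⟨Equiv.swap 1 3 * Equiv.swap 2 4, Equiv.Perm.mem_alternatingGroup.2 (by decide +kernel)⟩)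
  | true => (1, ⟨(finRotate 5)⁻¹, Equiv.Perm.mem_alternatingGroup.2 (by decide +kernel)⟩)

/-- images of the members of the centraliser -/
noncomputable def psi : ℕ → ℕ → Z2A5
  | 0, _ => 1
  | k + 1, m => bif Nat.beq m 0 then 1 else pgen (Nat.beq (get4 clabT m) 1) * psi k (get cparT m)

theorem psi_chk : ((List.range 120).all fun m => [false, true].all fun s =>
    decide (psi 20 (ccl s m) = pgen s * psi 20 m)) = true := by decide +kernel

theorem psi_nodup : ((List.range 120).map fun m => psi 20 m).Nodup := by decide +kernel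

theorem cpt_nodup : ((List.range 120).map fun m => (get cPtT m, get cHT m)).Nodup := by decide +kernel

theorem cm_row {m : ℕ} (hm : m < 120) : get cPtT m < 1540 ∧ get cHT m < 114 ∧
    Commute (tJ : GL7) (xM (get cPtT m) (get cHT m)) := by
  have h := all_range cmem_chk hm
  simp only [Bool.and_eq_true, decide_eq_true_eq] at h
  obtain ⟨⟨h1, h2⟩, h3⟩ := h
  exact ⟨h1, h2, (acts_tJ.mul (acts_xM _ h2)).ext2 ((acts_xM _ h2).mul acts_tJ) (feq_eq h3)⟩

/-- member of the centraliser -/
noncomputable def cJ (m : Fin 120) : Subgroup.centralizer ({tJ} : Set J1) :=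
  ⟨⟨xM (get cPtT m) (get cHT m), (acts_xM _ (cm_row m.isLt).2.1).1⟩,
    Subgroup.mem_centralizer_singleton_iff.2 (Subtype.ext (cm_row m.isLt).2.2.eq.symm)⟩

theorem acts_cJ (m : Fin 120) : Acts (((cJ m : J1)) : GL7) (cP m) := acts_xM _ (cm_row m.isLt).2.1

theorem ccl_spec (s : Bool) (m : Fin 120) : ∃ h : ccl s m < 120,
    cJ ⟨cgn s, by cases s <;> decide⟩ * cJ m = cJ ⟨ccl s m, h⟩ := by
  have h := all_range ccl_chk m.isLt
  simp only [Bool.and_eq_true] at h
  have h2 := all_bool h.2 s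
  simp only [Bool.and_eq_true, decide_eq_true_eq] at h2
  exact ⟨h2.1, Subtype.ext (Subtype.ext (((acts_cJ _).mul (acts_cJ m)).ext2 (acts_cJ ⟨ccl s m, h2.1⟩) (feq_eq h2.2)))⟩

theorem cJ_zero : cJ 0 = 1 := by
  refine Subtype.ext (Subtype.ext ?_)
  show xM (get cPtT 0) (get cHT 0) = 1
  rw [show get cPtT 0 = 0 by decide +kernel, show get cHT 0 = 0 by decide +kernel, xM, eM_at_zero, hM_zero, one_mul]

theorem cJ_mul : ∀ m : ℕ, ∀ hm : m < 120, ∀ l : Fin 120,
    ∃ n : Fin 120, cJ ⟨m, hm⟩ * cJ l = cJ n ∧ psi 20 n = psi 20 m * psi 20 l := by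
  intro m
  induction m using Nat.strong_induction_on with
  | h m ih =>
    intro hm l
    by_cases h0 : m = 0
    · subst h0
      exact ⟨l, by rw [show (⟨0, hm⟩ : Fin 120) = 0 from rfl, cJ_zero, one_mul],
        by rw [show psi 20 0 = 1 from rfl, one_mul]⟩
    · have h := all_range ccl_chk hm
      simp only [Bool.and_eq_true, Bool.or_eq_true, decide_eq_true_eq, nbeq] at h
      obtain ⟨hp, hpm⟩ := h.1.resolve_left h0
      obtain ⟨n, hn, hpn⟩ := ih _ hp (hp.trans hm) l
      set s := (Nat.beq (get4 clabT m) 1)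
      obtain ⟨hlt, e⟩ := ccl_spec s ⟨_, hp.trans hm⟩
      obtain ⟨hlt', e'⟩ := ccl_spec s n
      have hp1 := all_bool (all_range psi_chk (hp.trans hm)) s
      have hp2 := all_bool (all_range psi_chk n.isLt) s
      simp only [decide_eq_true_eq] at hp1 hp2
      rw [hpm] at hp1
      have e0 : cJ ⟨m, hm⟩ = cJ ⟨cgn s, by cases s <;> decide⟩ * cJ ⟨_, hp.trans hm⟩ := by
        rw [e]; exact congrArg cJ (Fin.ext hpm.symm)
      exact ⟨⟨_, hlt'⟩, by rw [e0, mul_assoc, hn, e'], by rw [hp2, hpn, hp1, mul_assoc]⟩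

theorem cJ_surjective : Function.Surjective cJ := by
  rintro ⟨⟨g, hg⟩, hc⟩
  have hc' : g * (tJ : GL7) = (tJ : GL7) * g := congrArg Subtype.val (Subgroup.mem_centralizer_singleton_iff.1 hc)
  obtain ⟨i, hi, k, hk, rfl⟩ := exists_xM hg
  have h := acts_tJ.mul (acts_xM i hk)
  rw [← hc'] at h
  have hu := fun (f : ℕ) (hf : f < 1540) => Acts.unique ((acts_xM i hk).mul acts_tJ) h hf
  have hti : tP i = i := by
    have h0 := hu 0 (by norm_num)
    rw [show tP 0 = 0 from (hrow (k := 1) (by norm_num)).2.1, xM_zero_pt hi hk] at h0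
    exact h0.symm
  have h1 := all_range fix_chk hi
  simp only [Bool.or_eq_true, Bool.not_eq_true', nbne, ne_eq, List.any_eq_true, List.mem_range, nbeq] at h1
  obtain ⟨fi, hfi, rfl⟩ := h1.resolve_left (fun e => e hti)
  have h2 := all_range (cent_chk hfi) hk
  simp only [Bool.or_eq_true, Bool.not_eq_true', List.any_eq_true, List.mem_range, Bool.and_eq_true, nbeq] at h2
  have hfeq : feq base2 (fun f => tP (eP fuel (get fixT fi) (get (hT k) f)))
      (fun f => eP fuel (get fixT fi) (get (hT k) (tP f))) = true := List.all_eq_true.2 fun f hf => by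
    have hf' : f < 1540 := by
      have key : ∀ f ∈ base2, f < 1540 := by decide +kernel
      exact key f hf
    exact nbeq.2 (hu f hf').symm
  obtain ⟨m, hm, hm1, hm2⟩ := h2.resolve_left (by rw [hfeq]; simp)
  exact ⟨⟨m, hm⟩, Subtype.ext (Subtype.ext (by show xM _ _ = _; rw [hm1, hm2]))⟩

theorem cJ_injective : Function.Injective cJ := by
  intro m n e
  have e' : xM (get cPtT m) (get cHT m) = xM (get cPtT n) (get cHT n) :=
    congrArg (fun x : Subgroup.centralizer ({tJ} : Set J1) => ((x : J1) : GL7)) e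
  obtain ⟨h1, h2⟩ := xM_inj (cm_row m.isLt).1 (cm_row n.isLt).1 (cm_row m.isLt).2.1 (cm_row n.isLt).2.1 e'
  exact Fin.ext (List.inj_on_of_nodup_map cpt_nodup (List.mem_range.2 m.isLt) (List.mem_range.2 n.isLt) (Prod.ext h1 h2))

theorem centralizer_equiv : Nonempty (Subgroup.centralizer ({tJ} : Set J1) ≃* Z2A5) := by
  classical
  let e := Equiv.ofBijective cJ ⟨cJ_injective, cJ_surjective⟩
  let φ : Subgroup.centralizer ({tJ} : Set J1) →* Z2A5 := MonoidHom.mk' (fun x => psi 20 (e.symm x)) fun x y => by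
    obtain ⟨m, rfl⟩ := e.surjective x
    obtain ⟨l, rfl⟩ := e.surjective y
    obtain ⟨n, hn, hp⟩ := cJ_mul m m.isLt l
    have hn' : e m * e l = e n := hn
    simp only [hn', Equiv.symm_apply_apply, hp]
  have hinj : Function.Injective φ := by
    intro x y h
    obtain ⟨m, rfl⟩ := e.surjective x
    obtain ⟨l, rfl⟩ := e.surjective y
    simp only [φ, MonoidHom.mk'_apply, Equiv.symm_apply_apply] at h
    rw [show m = l from Fin.ext (List.inj_on_of_nodup_map psi_nodup (List.mem_range.2 m.isLt) (List.mem_range.2 l.isLt) h)]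
  refine ⟨MulEquiv.ofBijective φ ((Nat.bijective_iff_injective_and_card φ).2 ⟨hinj, ?_⟩)⟩
  rw [← Nat.card_congr e, Nat.card_fin, Nat.card_eq_fintype_card]
  decide +kernel

end Cfsg.Agent.J1Cert
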