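import Cfsg.Agent.Lib.Spor.J1.Defs

/-! Data and checks for the automorphisms of `J1`. -/

set_option autoImplicit false
set_option maxHeartbeats 4000000
set_option maxRecDepth 10000

namespace Cfsg.Agent.J1Cert

/-- the element of order nineteen -/
noncomputable def aP (f : Nat) : Nat := get (hT 16) f

/-- the element of order six -/
noncomputable def uP (f : Nat) : Nat := get (hT 3) f

/-- the element inverting it -/
noncomputable def rP (f : Nat) : Nat := eP fuel 555 (get (hT 13) f)

/-- all elements inverting it -/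
def rList : List (Nat × Nat) := [(555, 13), (555, 25), (555, 40), (555, 44), (555, 66), (555, 79)]

/-- an inverting element -/
noncomputable def rnP (n f : Nat) : Nat := eP fuel (rList.getD n (0, 0)).1 (get (hT (rList.getD n (0, 0)).2) f)

/-- words for the two generators -/
def genWords : List (List Nat) := [[1, 1, 2, 0, 1, 2, 0, 2, 1, 1, 1, 0], [2, 1, 0, 2, 0, 2, 1, 0, 2, 1, 0, 0, 1, 0]]

/-- a word in the three elements -/
noncomputable def aurP : List Nat → Nat → Nat
  | [], f => f
  | s :: w, f => bif Nat.beq s 0 then aP (aurP w f) else bif Nat.beq s 1 then uP (aurP w f) else rP (aurP w f)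

/-- how each candidate image is excluded or obtained -/
def pairT : List (Nat × Nat × Nat) := [(1, 0, 0), (0, 2, 6), (0, 1, 19), (0, 1, 19), (0, 1, 19), (0, 1, 19), (0, 1, 19), (0, 1, 19), (0, 2, 6), (0, 2, 6), (0, 1, 19), (0, 2, 6), (0, 2, 6), (0, 2, 6), (0, 1, 19), (0, 1, 19), (0, 1, 19), (0, 2, 6), (0, 2, 6), (0, 1, 19), (0, 1, 19), (0, 1, 19), (0, 1, 19), (0, 1, 19), (0, 2, 6), (0, 1, 19), (0, 1, 19), (0, 2, 6), (0, 2, 6), (0, 1, 19), (0, 1, 19), (0, 1, 19), (0, 1, 19), (0, 2, 6), (0, 1, 19), (0, 1, 19), (0, 1, 19), (0, 1, 19), (0, 2, 6), (0, 1, 19), (0, 1, 19), (1, 4, 0), (0, 1, 19), (0, 1, 19), (0, 1, 19), (1, 5, 0), (0, 2, 6), (0, 1, 19), (0, 1, 19), (0, 1, 19), (0, 1, 19), (0, 1, 19), (0, 1, 19), (0, 2, 6), (0, 1, 19), (0, 1, 19), (0, 1, 19), (0, 1, 19), (0, 1, 19), (0, 2, 6), (0, 1, 19), (0, 1, 19), (0, 1, 19), (1, 2, 0), (0, 2, 6), (0, 1, 19), (0, 1, 19), (0, 1, 19), (0, 2, 6), (0, 1, 19), (0, 1, 19), (1, 1, 0), (0, 1, 19), (0, 1, 19), (0, 1, 19), (0, 2, 6), (0, 1, 19), (0, 1,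 19), (0, 2, 6), (0, 1, 19), (0, 1, 19), (0, 2, 6), (0, 2, 6), (0, 1, 19), (0, 2, 6), (0, 1, 19), (0, 1, 19), (0, 1, 19), (0, 1, 19), (0, 1, 19), (0, 2, 6), (0, 2, 6), (0, 1, 19), (0, 1, 19), (0, 1, 19), (0, 2, 6), (0, 1, 19), (0, 1, 19), (0, 2, 6), (0, 2, 6), (0, 1, 19), (0, 2, 6), (1, 3, 0), (0, 2, 6), (0, 1, 19), (0, 1, 19), (0, 1, 19), (0, 1, 19)]

theorem a_fix : ((List.range 1540).all fun i => Nat.beq i 0 || !(Nat.beq (aP i) i)) = true := by decide +kernel

theorem au_rel : (feq base2 (itr aP 19) (fun f => f) && !(feq base2 aP (fun f => f)) &&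
    feq base2 (fun f => uP (aP f)) (fun f => itr aP 12 (uP f)) &&
    feq base2 (itr uP 6) (fun f => f) && !(feq base2 (itr uP 2) (fun f => f)) && !(feq base2 (itr uP 3) (fun f => f)) &&
    feq base2 (fun f => rP (rP f)) (fun f => f) && !(feq base2 rP (fun f => f)) &&
    feq base2 (fun f => uP (rP (uP f))) rP) = true := by decide +kernel

theorem au_all : ((List.range 114).all fun k => (List.range 19).any fun i => (List.range 6).any fun j =>
    feq base2 (get (hT k)) (fun f => itr aP i (itr uP j f))) = true := by decide +kernel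

theorem u_conj : ((List.range 114).all fun k =>
    !(feq base2 (fun f => get (hT k) (aP f)) (fun f => itr aP 12 (get (hT k) f))) ||
    feq base2 (itr (get (hT k)) 2) (fun f => f) || feq base2 (itr (get (hT k)) 3) (fun f => f) ||
    !(feq base2 (itr (get (hT k)) 6) (fun f => f)) ||
    (List.range 19).any fun i => feq base2 (fun f => itr aP i (uP f)) (fun f => get (hT k) (itr aP i f))) = true := by
  decide +kernel

theorem u_fix : ((List.range 1540).all fun i => !(Nat.beq (uP i) i) || Nat.beq i 0 || Nat.beq i 555) = true := by decide +kernel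

theorem r_all : ([0, 555].all fun i => (List.range 114).all fun k =>
    (fun g => !(feq base2 (fun f => g (g f)) (fun f => f)) || feq base2 g (fun f => f) ||
      !(feq base2 (fun f => uP (g (uP f))) g) ||
      (List.range 6).any fun n => Nat.beq (rList.getD n (0, 0)).1 i && Nat.beq (rList.getD n (0, 0)).2 k)
    (fun f => eP fuel i (get (hT k) f))) = true := by decide +kernel

/-- one candidate -/
noncomputable def pairOK (c n : Nat) (w : Nat × Nat × Nat) : Bool :=
  bif Nat.beq w.1 1 then
    feq base2 (fun f => itr uP w.2.1 (aP f)) (fun f => itr aP (c + 1) (itr uP w.2.1 f)) &&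
    feq base2 (fun f => itr uP w.2.1 (rP f)) (fun f => rnP n (itr uP w.2.1 f))
  else
    feq base2 (itr (fun f => rP (itr aP w.2.1 f)) w.2.2) (fun f => f) &&
    !(feq base2 (itr (fun f => rnP n (itr aP ((c + 1) * w.2.1) f)) w.2.2) (fun f => f))

theorem pair_chk : ((List.range 18).all fun c => (List.range 6).all fun n =>
    pairOK c n (pairT.getD (c * 6 + n) (0, 0, 0))) = true := by decide +kernel

theorem word_chk : (feq base2 (aurP (genWords.getD 0 [])) (gP false) && feq base2 (aurP (genWords.getD 1 [])) (gP true)) = true := by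
  decide +kernel

theorem r_lt : ((List.range 6).all fun n => decide ((rList.getD n (0, 0)).1 < 1540) && decide ((rList.getD n (0, 0)).2 < 114)) = true := by
  decide +kernel

end Cfsg.Agent.J1Cert
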