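import Mathlib
import Cfsg.Prelude.Def_KGroupFacts
import Cfsg.Agent.Lib.Spor.J1.Structure
import Cfsg.Agent.Lib.Spor.J1.CheckAut

/-! Every automorphism of `J1` is inner. -/

set_option autoImplicit false

noncomputable section

namespace Cfsg.Agent.J1Cert

open Cfsg Cfsg.Spor

local notation "GL7" => GL (Fin 7) (ZMod 11)

/-- the element of order nineteen -/
def aJ : J1 := hJ 16

/-- the element of order six -/
def uJ : J1 := hJ 3

/-- the inverting involution -/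
def rrJ : J1 := ⟨xM 555 13, (acts_xM _ (by norm_num)).1⟩

theorem acts_aJ : Acts (aJ : GL7) aP := by rw [aJ, hJ_val (by norm_num)]; exact acts_hM (by norm_num)

theorem acts_uJ : Acts (uJ : GL7) uP := by rw [uJ, hJ_val (by norm_num)]; exact acts_hM (by norm_num)

theorem acts_rrJ : Acts (rrJ : GL7) rP := acts_xM _ (by norm_num)

theorem acts_oneJ : Acts ((1 : J1) : GL7) fun f => f := acts_one

theorem Acts.mulJ {g h : J1} {σ τ : ℕ → ℕ} (hg : Acts (g : GL7) σ) (hh : Acts (h : GL7) τ) :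
    Acts ((g * h : J1) : GL7) fun f => σ (τ f) :=
  hg.mul hh

theorem Acts.powJ {g : J1} {σ : ℕ → ℕ} (hg : Acts (g : GL7) σ) (n : ℕ) : Acts ((g ^ n : J1) : GL7) (itr σ n) := by
  rw [Subgroup.coe_pow]; exact iterate_fix hg

theorem base2_lt : ∀ f ∈ base2, f < 1540 := by decide +kernel

theorem eqJ {g h : J1} {σ τ : ℕ → ℕ} (hg : Acts (g : GL7) σ) (hh : Acts (h : GL7) τ) (e : feq base2 σ τ = true) :
    g = h :=
  Subtype.ext (hg.ext2 hh (feq_eq e))

theorem neJ {g h : J1} {σ τ : ℕ → ℕ} (hg : Acts (g : GL7) σ) (hh : Acts (h : GL7) τ) (e : feq base2 σ τ = false) :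
    g ≠ h := by
  intro hgh
  have h' : feq base2 σ τ = true := List.all_eq_true.2 fun f hf =>
    nbeq.2 (hg.unique (by rw [hgh]; exact hh) (base2_lt f hf))
  rw [e] at h'
  exact Bool.noConfusion h'

theorem rels : aJ ^ 19 = 1 ∧ aJ ≠ 1 ∧ uJ * aJ = aJ ^ 12 * uJ ∧ uJ ^ 6 = 1 ∧ uJ ^ 2 ≠ 1 ∧ uJ ^ 3 ≠ 1 ∧
    rrJ * rrJ = 1 ∧ rrJ ≠ 1 ∧ uJ * (rrJ * uJ) = rrJ := by
  have h := au_rel
  simp only [Bool.and_eq_true, Bool.not_eq_true'] at h
  obtain ⟨⟨⟨⟨⟨⟨⟨⟨h1, h2⟩, h3⟩, h4⟩, h5⟩, h6⟩, h7⟩, h8⟩, h9⟩ := h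
  exact ⟨eqJ (acts_aJ.powJ 19) acts_oneJ h1, neJ acts_aJ acts_oneJ h2,
    eqJ (acts_uJ.mulJ acts_aJ) ((acts_aJ.powJ 12).mulJ acts_uJ) h3, eqJ (acts_uJ.powJ 6) acts_oneJ h4,
    neJ (acts_uJ.powJ 2) acts_oneJ h5, neJ (acts_uJ.powJ 3) acts_oneJ h6,
    eqJ (acts_rrJ.mulJ acts_rrJ) acts_oneJ h7, neJ acts_rrJ acts_oneJ h8,
    eqJ (acts_uJ.mulJ (acts_rrJ.mulJ acts_uJ)) acts_rrJ h9⟩

theorem orderOf_aJ : orderOf aJ = 19 :=
  haveI : Fact (Nat.Prime 19) := ⟨by norm_num⟩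
  orderOf_eq_prime rels.1 rels.2.1

theorem aJ_fix_pt {i : Fin 1540} (h : aJ • i = i) : i = 0 := by
  have h1 := all_range a_fix i.isLt
  simp only [Bool.or_eq_true, Bool.not_eq_true', nbne, nbeq, ne_eq] at h1
  exact Fin.ext (h1.resolve_right fun e => e (by rw [← smul_val acts_aJ, h]))

theorem pow_aJ_zero (n : ℕ) : aJ ^ n • (0 : Fin 1540) = 0 := by
  induction n with
  | zero => rw [pow_zero, one_smul]
  | succ n ih => rw [pow_succ, mul_smul, aJ, hJ_zero_pt (by norm_num)]; exact ih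

theorem mem_powers {x : J1} (hx : x ∈ Subgroup.zpowers aJ) : ∃ m < 19, x = aJ ^ m := by
  obtain ⟨z, rfl⟩ := hx
  refine ⟨(z % 19).toNat, by omega, ?_⟩
  show aJ ^ z = aJ ^ (z % 19).toNat
  rw [← zpow_natCast, Int.toNat_of_nonneg (Int.emod_nonneg _ (by norm_num))]
  conv_lhs => rw [← zpow_mod_orderOf aJ z, orderOf_aJ]
  norm_num

/-- an element fixing the first point is a tabulated one -/
theorem exists_hJ {g : J1} (h : g • (0 : Fin 1540) = 0) : ∃ k < 114, g = hJ k := by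
  obtain ⟨i, hi, k, hk, e⟩ := exists_xM g.2
  have h0 := (acts_pm g).unique (by rw [e]; exact acts_xM i hk) (show 0 < 1540 by norm_num)
  rw [xM_zero_pt hi hk] at h0
  obtain rfl : (0 : ℕ) = i := (congrArg Fin.val h).symm.trans h0
  exact ⟨k, hk, Subtype.ext (by rw [hJ_val hk, e, xM, eM_at_zero, one_mul])⟩

/-- the closure of the three elements is everything -/
theorem closure_aur : Subgroup.closure ({aJ, uJ, rrJ} : Set J1) = ⊤ := by
  set T := Subgroup.closure ({aJ, uJ, rrJ} : Set J1)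
  have hw : ∀ w : List ℕ, ∃ g ∈ T, Acts (g : GL7) (aurP w) := by
    intro w
    induction w with
    | nil => exact ⟨1, one_mem _, acts_oneJ⟩
    | cons s w ih =>
      obtain ⟨g, hg, hga⟩ := ih
      by_cases h0 : s = 0
      · exact ⟨aJ * g, mul_mem (Subgroup.subset_closure (by simp)) hg, (acts_aJ.mulJ hga).congr fun f _ => by
          simp [aurP, h0]⟩
      · by_cases h1 : s = 1
        · exact ⟨uJ * g, mul_mem (Subgroup.subset_closure (by simp)) hg, (acts_uJ.mulJ hga).congr fun f _ => by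
            simp only [aurP, show Nat.beq s 0 = false from nbne.2 h0, show Nat.beq s 1 = true from nbeq.2 h1,
              cond_false, cond_true]⟩
        · exact ⟨rrJ * g, mul_mem (Subgroup.subset_closure (by simp)) hg, (acts_rrJ.mulJ hga).congr fun f _ => by
            simp only [aurP, show Nat.beq s 0 = false from nbne.2 h0, show Nat.beq s 1 = false from nbne.2 h1,
              cond_false]⟩
  have hgen : ∀ s : Bool, (⟨gM s, (acts_gen s).1⟩ : J1) ∈ T := by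
    intro s
    have h := word_chk
    simp only [Bool.and_eq_true] at h
    cases s
    · obtain ⟨g, hg, hga⟩ := hw (genWords.getD 0 [])
      rwa [← eqJ (g := g) (h := ⟨gM false, _⟩) hga (acts_gen false) h.1]
    · obtain ⟨g, hg, hga⟩ := hw (genWords.getD 1 [])
      rwa [← eqJ (g := g) (h := ⟨gM true, _⟩) hga (acts_gen true) h.2]
  refine eq_top_iff.2 fun x _ => ?_
  have hle : (J1 : Subgroup GL7) ≤ T.map J1.subtype := by
    refine (Subgroup.closure_le _).2 ?_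
    rintro g (rfl | rfl)
    · exact ⟨_, hgen false, rfl⟩
    · exact ⟨_, hgen true, rfl⟩
  obtain ⟨y, hy, e⟩ := Subgroup.mem_map.1 (hle x.2)
  exact (Subtype.ext e : y = x) ▸ hy

theorem final_step (φ : MulAut J1) (ha : φ aJ ∈ Subgroup.zpowers aJ) (hu : φ uJ = uJ) : φ ∈ Cfsg.Inn J1 := by
  obtain ⟨-, hane, -, -, -, -, hrr, hrne, huru⟩ := rels
  obtain ⟨m, hm, hma⟩ := mem_powers ha
  have hm0 : m ≠ 0 := fun e => hane (φ.injective (by rw [hma, e, pow_zero, map_one]))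
  obtain ⟨c, rfl⟩ : ∃ c, m = c + 1 := ⟨m - 1, by omega⟩
  set g := φ rrJ with hg
  have h1 : g * g = 1 := by rw [hg, ← map_mul, hrr, map_one]
  have h2 : g ≠ 1 := fun e => hrne (φ.injective (e.trans (map_one φ).symm))
  have h3 : uJ * (g * uJ) = g := by rw [hg]; conv_lhs => rw [← hu, ← map_mul, ← map_mul, huru]
  set p : Fin 1540 := g • 0
  have hp : uJ • p = p := by
    conv_rhs => rw [show p = g • (0 : Fin 1540) from rfl, ← h3]
    rw [mul_smul, mul_smul, uJ, hJ_zero_pt (by norm_num)]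
  have hp' : (p : ℕ) = 0 ∨ (p : ℕ) = 555 := by
    have h := all_range u_fix p.isLt
    simp only [Bool.or_eq_true, Bool.not_eq_true', nbne, nbeq, ne_eq] at h
    rcases h with (h | h) | h
    · exact absurd (by rw [← smul_val acts_uJ, hp]) h
    · exact Or.inl h
    · exact Or.inr h
  obtain ⟨i, hi, k, hk, e⟩ := exists_xM g.2
  have hag : Acts (g : GL7) (fun f => eP fuel i (get (hT k) f)) := by rw [e]; exact acts_xM i hk
  have hpi : (p : ℕ) = i := (smul_val hag 0).trans (xM_zero_pt hi hk)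
  have hmem : i ∈ ([0, 555] : List ℕ) := by rw [← hpi]; simpa using hp'
  have hr := List.all_eq_true.1 r_all i hmem
  have hr := all_range hr hk
  simp only [Bool.or_eq_true, Bool.not_eq_true', List.any_eq_true, List.mem_range, Bool.and_eq_true, nbeq] at hr
  obtain ⟨n, hn, hn1, hn2⟩ : ∃ n < 6, (rList.getD n (0, 0)).1 = i ∧ (rList.getD n (0, 0)).2 = k := by
    rcases hr with ((hr | hr) | hr) | hr
    · exact absurd h1 (neJ (hag.mulJ hag) acts_oneJ hr)
    · exact absurd (eqJ hag acts_oneJ hr) h2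
    · exact absurd h3 (neJ (acts_uJ.mulJ (hag.mulJ acts_uJ)) hag hr)
    · exact hr
  have hgn : Acts (g : GL7) (rnP n) := hag.congr fun f _ => by rw [rnP, hn1, hn2]
  have hc := all_range (all_range pair_chk (show c < 18 by omega)) hn
  set w := pairT.getD (c * 6 + n) (0, 0, 0)
  unfold pairOK at hc
  cases hb : Nat.beq w.1 1 with
  | true =>
    rw [hb, cond_true] at hc
    simp only [Bool.and_eq_true] at hc
    have e1 := eqJ ((acts_uJ.powJ w.2.1).mulJ acts_aJ) ((acts_aJ.powJ (c + 1)).mulJ (acts_uJ.powJ w.2.1)) hc.1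
    have e2 := eqJ ((acts_uJ.powJ w.2.1).mulJ acts_rrJ) (hgn.mulJ (acts_uJ.powJ w.2.1)) hc.2
    have hφ : φ = MulAut.conj (uJ ^ w.2.1) := by
      refine MulEquiv.toMonoidHom_injective (MonoidHom.eq_of_eqOn_dense closure_aur ?_)
      rintro x (rfl | rfl | rfl)
      · show φ aJ = uJ ^ w.2.1 * aJ * (uJ ^ w.2.1)⁻¹
        rw [e1, mul_inv_cancel_right, hma]
      · show φ uJ = uJ ^ w.2.1 * uJ * (uJ ^ w.2.1)⁻¹
        rw [hu, ← pow_succ, pow_succ', mul_inv_cancel_right]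
      · show φ rrJ = uJ ^ w.2.1 * rrJ * (uJ ^ w.2.1)⁻¹
        rw [e2, mul_inv_cancel_right]
    exact ⟨_, hφ.symm⟩
  | false =>
    rw [hb, cond_false] at hc
    simp only [Bool.and_eq_true, Bool.not_eq_true'] at hc
    have e1 := eqJ ((acts_rrJ.mulJ (acts_aJ.powJ w.2.1)).powJ w.2.2) acts_oneJ hc.1
    have e2 := neJ ((hgn.mulJ (acts_aJ.powJ ((c + 1) * w.2.1))).powJ w.2.2) acts_oneJ hc.2
    refine absurd ?_ e2
    rw [pow_mul, ← hma, ← map_pow, hg, ← map_mul, ← map_pow, e1, map_one]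

theorem inn_conj_mul {φ : MulAut J1} (g : J1) (h : MulAut.conj g * φ ∈ Cfsg.Inn J1) : φ ∈ Cfsg.Inn J1 := by
  have hg : MulAut.conj g ∈ Cfsg.Inn J1 := ⟨g, rfl⟩
  simpa using mul_mem (inv_mem hg) h

theorem second_step (φ : MulAut J1) (ha : φ aJ ∈ Subgroup.zpowers aJ) : φ ∈ Cfsg.Inn J1 := by
  obtain ⟨ha19, hane, hua, hu6, hu2, hu3, -⟩ := rels
  obtain ⟨m, hm, hma⟩ := mem_powers ha
  set g := φ uJ with hg
  have hfull : aJ ∈ Subgroup.zpowers (φ aJ) := by
    have hle : Subgroup.zpowers (φ aJ) ≤ Subgroup.zpowers aJ := Subgroup.zpowers_le.2 ha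
    have hcard : Nat.card (Subgroup.zpowers aJ) ≤ Nat.card (Subgroup.zpowers (φ aJ)) := by
      rw [Nat.card_zpowers, Nat.card_zpowers, MulEquiv.orderOf_eq]
    rw [Subgroup.eq_of_le_of_card_ge hle hcard]
    exact Subgroup.mem_zpowers aJ
  obtain ⟨t, ht⟩ := hfull
  have hga : g * φ aJ * g⁻¹ = φ aJ ^ 12 := by
    rw [hg, ← map_pow, ← map_mul, ← map_inv, ← map_mul, hua, mul_inv_cancel_right]
  have hga' : g * aJ * g⁻¹ = aJ ^ 12 := by
    rw [← ht, ← zpow_natCast, ← zpow_mul]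
    show g * φ aJ ^ t * g⁻¹ = _
    rw [← conj_zpow, hga, mul_comm, zpow_mul, zpow_natCast]
  have hga'' : g * aJ = aJ ^ 12 * g := mul_inv_eq_iff_eq_mul.1 hga'
  have hfix : g • (0 : Fin 1540) = 0 := by
    have h : aJ ^ 12 • (g • (0 : Fin 1540)) = g • 0 := by
      rw [← mul_smul, ← hga'', mul_smul, aJ, hJ_zero_pt (by norm_num)]
    refine aJ_fix_pt ?_
    have h' : ∀ k : ℕ, (aJ ^ 12) ^ k • (g • (0 : Fin 1540)) = g • 0 := by
      intro k
      induction k with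
      | zero => rw [pow_zero, one_smul]
      | succ k ih => rw [pow_succ, mul_smul, h, ih]
    have h8 := h' 8
    rwa [← pow_mul, show (12 * 8 : ℕ) = 19 * 5 + 1 from rfl, pow_succ, pow_mul, ha19, one_pow, one_mul] at h8
  obtain ⟨k, hk, hgk⟩ := exists_hJ hfix
  have hgA : Acts (g : GL7) (get (hT k)) := by rw [hgk, hJ_val hk]; exact acts_hM hk
  have hc := all_range u_conj hk
  simp only [Bool.or_eq_true, Bool.not_eq_true', List.any_eq_true, List.mem_range] at hc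
  have hpow : ∀ d, g ^ d = 1 → uJ ^ d = 1 := fun d e => φ.injective (by rw [map_pow, map_one]; exact e)
  obtain ⟨i, hi, hconj⟩ : ∃ i < 19, aJ ^ i * uJ = g * aJ ^ i := by
    rcases hc with (((hc | hc) | hc) | hc) | ⟨i, hi, hc⟩
    · exact absurd hga'' (neJ (hgA.mulJ acts_aJ) ((acts_aJ.powJ 12).mulJ hgA) hc)
    · exact absurd (hpow 2 (eqJ (hgA.powJ 2) acts_oneJ hc)) hu2
    · exact absurd (hpow 3 (eqJ (hgA.powJ 3) acts_oneJ hc)) hu3
    · refine absurd ?_ (neJ (hgA.powJ 6) acts_oneJ hc)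
      rw [hg, ← map_pow, hu6, map_one]
    · exact ⟨i, hi, eqJ ((acts_aJ.powJ i).mulJ acts_uJ) (hgA.mulJ (acts_aJ.powJ i)) hc⟩
  refine inn_conj_mul (aJ ^ i)⁻¹ (final_step _ ?_ ?_)
  · show (aJ ^ i)⁻¹ * φ aJ * (aJ ^ i)⁻¹⁻¹ ∈ Subgroup.zpowers aJ
    exact mul_mem (mul_mem (inv_mem (pow_mem (Subgroup.mem_zpowers aJ) i)) ha)
      (inv_mem (inv_mem (pow_mem (Subgroup.mem_zpowers aJ) i)))
  · show (aJ ^ i)⁻¹ * φ uJ * (aJ ^ i)⁻¹⁻¹ = uJ
    rw [inv_inv, ← hg, mul_assoc, ← hconj, inv_mul_cancel_left]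

theorem all_inner (φ : MulAut J1) : φ ∈ Cfsg.Inn J1 := by
  haveI : Fact (Nat.Prime 19) := ⟨by norm_num⟩
  have hfac : (Nat.card J1).factorization 19 = 1 := by
    rw [card_J1, show (175560 : ℕ) = 19 * 9240 from rfl, Nat.factorization_mul (by norm_num) (by norm_num),
      Finsupp.add_apply, Nat.Prime.factorization_self (by norm_num),
      Nat.factorization_eq_zero_of_not_dvd (show ¬ 19 ∣ 9240 by norm_num)]
  have hcard : ∀ x : J1, orderOf x = 19 → Nat.card (Subgroup.zpowers x) = 19 ^ (Nat.card J1).factorization 19 :=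
    fun x hx => by rw [Nat.card_zpowers, hx, hfac, pow_one]
  obtain ⟨g, hg⟩ := MulAction.exists_smul_eq J1
    (Sylow.ofCard _ (hcard (φ aJ) (by rw [MulEquiv.orderOf_eq, orderOf_aJ])))
    (Sylow.ofCard _ (hcard aJ orderOf_aJ))
  refine inn_conj_mul g (second_step _ ?_)
  show g * φ aJ * g⁻¹ ∈ Subgroup.zpowers aJ
  have hm : g * φ aJ * g⁻¹ ∈ ((g • Sylow.ofCard _ (hcard (φ aJ) (by rw [MulEquiv.orderOf_eq, orderOf_aJ])) : Sylow 19 J1) : Subgroup J1) :=
    Subgroup.smul_mem_pointwise_smul _ (MulAut.conj g) _ (Subgroup.mem_zpowers (φ aJ))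
  rw [hg] at hm
  exact hm

/-- The outer automorphism group of `J1` is trivial. -/
theorem card_Out : Nat.card (Cfsg.Out J1) = 1 := by
  show Nat.card (MulAut J1 ⧸ Cfsg.Inn J1) = 1
  rw [← Subgroup.index_eq_card, Subgroup.index_eq_one]
  exact eq_top_iff.2 fun φ _ => all_inner φ

end Cfsg.Agent.J1Cert

end
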