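import Cfsg.Agent.Lib.Spor.J1.Defs

/-! Checks on the Sylow subgroups of `J1`. -/

set_option autoImplicit false
set_option maxHeartbeats 4000000
set_option maxRecDepth 10000

namespace Cfsg.Agent.J1Cert

/-- elements of prime order -/
def pWit : List (Nat × Nat × Nat) := [(3, 789, 75), (5, 463, 18), (7, 704, 78), (11, 1273, 90), (19, 208, 3)]

/-- three commuting involutions and an element permuting them with their products -/
def eWit : List (Nat × Nat) := [(0, 1), (1000, 24), (1221, 45), (261, 13)]

/-- map of a recorded element -/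
noncomputable def wP2 (w : Nat × Nat) (f : Nat) : Nat := eP fuel w.1 (get (hT w.2) f)

/-- map of one of the four recorded elements -/
noncomputable def eWP (n f : Nat) : Nat := wP2 (eWit.getD n (0, 0)) f

theorem wit_lt : (eWit.all fun w => decide (w.2 < 114)) = true ∧ (pWit.all fun w => decide (w.2.2 < 114)) = true := by
  decide +kernel

theorem p_chk : (pWit.all fun w => feq base2 (itr (wP2 w.2) w.1) (fun f => f) &&
    !(feq base2 (wP2 w.2) (fun f => f))) = true := by decide +kernel

theorem e_rel : (feq base2 (fun f => eWP 0 (eWP 0 f)) (fun f => f) && feq base2 (fun f => eWP 0 (eWP 1 f)) (fun f => eWP 1 (eWP 0 f)) &&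
    feq base2 (fun f => eWP 0 (eWP 2 f)) (fun f => eWP 2 (eWP 0 f)) &&
    feq base2 (fun f => eWP 1 (eWP 2 f)) (fun f => eWP 2 (eWP 1 f)) &&
    feq base2 (fun f => eWP 3 (eWP 0 f)) (fun f => eWP 1 (eWP 3 f)) &&
    feq base2 (fun f => eWP 3 (eWP 1 f)) (fun f => eWP 2 (eWP 3 f)) &&
    feq base2 (fun f => itr (eWP 3) 3 (eWP 0 f)) (fun f => eWP 0 (eWP 1 (itr (eWP 3) 3 f))) &&
    feq base2 (fun f => itr (eWP 3) 5 (eWP 0 f)) (fun f => eWP 0 (eWP 1 (eWP 2 (itr (eWP 3) 5 f))))) = true := by
  decide +kernel

/-- a product of some of the three involutions -/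
noncomputable def cubeP (n f : Nat) : Nat :=
  (fun h => (fun h => bif Nat.beq (n / 4 % 2) 1 then eWP 2 h else h) (bif Nat.beq (n / 2 % 2) 1 then eWP 1 h else h))
    (bif Nat.beq (n % 2) 1 then eWP 0 f else f)

theorem cube_chk : ((List.range 8).all fun m => (List.range m).all fun n => !(feq base2 (cubeP m) (cubeP n))) = true := by
  decide +kernel

end Cfsg.Agent.J1Cert
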