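import Mathlib
import Cfsg.Prelude.Def_KGroupFacts
import Cfsg.Agent.Lib.Spor.MultCore
import Cfsg.Agent.Lib.Spor.J1.Out
import Cfsg.Agent.Lib.Spor.J1.CheckMult

/-! The Schur multiplier of `J1` is trivial. -/

set_option autoImplicit false
set_option linter.style.haveILetI false

noncomputable section

namespace Cfsg.Agent.J1Cert

open Cfsg Cfsg.Spor

local notation "GL7" => GL (Fin 7) (ZMod 11)

/-- a recorded element -/
def wJ (w : ℕ × ℕ) : J1 := if h : w.2 < 114 then ⟨xM w.1 w.2, (acts_xM _ h).1⟩ else 1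

theorem acts_wJ {w : ℕ × ℕ} (h : w.2 < 114) : Acts (wJ w : GL7) (wP2 w) := by
  rw [wJ, dif_pos h]; exact acts_xM _ h

theorem conj_class {E : Type*} [Group E] {g a w : E} (hw : w ∈ Subgroup.center E) (h : a * a = w) :
    g * a * g⁻¹ * (g * a * g⁻¹) = w := by
  rw [show g * a * g⁻¹ * (g * a * g⁻¹) = g * (a * a) * g⁻¹ by group, h, Subgroup.mem_center_iff.1 hw g,
    mul_inv_cancel_right]

/-- seven conjugate lifts in an elementary abelian group of order eight force commutation -/
theorem lifts_commute {E : Type*} [Group E] {a b c w : E} (hw : w ∈ Subgroup.center E) (hw2 : w * w = 1)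
    (ha : a * a = w) (hb : b * b = w) (hc : c * c = w) (hab : a * b * (a * b) = w) (hac : a * c * (a * c) = w)
    (hbc : b * c * (b * c) = w) (habc : a * b * c * (a * b * c) = w) : Commute a b ∧ Commute a c ∧ Commute b c := by
  have hcw : ∀ g : E, g * w = w * g := fun g => Subgroup.mem_center_iff.1 hw g
  have key : ∀ x y : E, x * x = w → y * y = w → x * y * (x * y) = w → y * x = x * y * w := fun x y hx hy hxy => by
    calc y * x = w * (y * x) * w := by rw [mul_assoc w, hcw, ← mul_assoc, hw2, one_mul]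
      _ = x * x * (y * x) * (y * y) := by rw [hx, hy]
      _ = x * (x * (y * x) * y) * y := by group
      _ = x * w * y := by rw [show x * (y * x) * y = x * y * (x * y) by group, hxy]
      _ = x * y * w := by rw [mul_assoc x w, ← hcw y, mul_assoc]
  have e1 := key a b ha hb hab
  have e2 := key a c ha hc hac
  have e3 := key b c hb hc hbc
  have e4 := key (a * b) c hab hc habc
  have hwone : w = 1 := by
    have h : c * (a * b) = a * b * c * (w * w) := by
      calc c * (a * b) = (c * a) * b := by group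
        _ = a * c * w * b := by rw [e2]
        _ = a * (c * b) * w := by rw [mul_assoc (a * c), ← hcw b]; group
        _ = a * b * c * (w * w) := by rw [e3]; group
    rw [hw2, mul_one, e4] at h
    exact mul_left_cancel (h.trans (mul_one _).symm)
  rw [hwone, mul_one] at e1 e2 e3
  exact ⟨e1.symm, e2.symm, e3.symm⟩

/-- The Schur multiplier of `J1` is trivial. -/
theorem multiplier : Cfsg.HasCyclicSchurMultiplier J1 1 := by
  haveI : Finite J1 := Nat.finite_of_card_ne_zero (by rw [card_J1]; norm_num)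
  refine Spor.Mult.trivial_of_prime fun p hp Δ _ _ σ hσ hexp => Spor.Mult.ker_eq_bot σ hσ fun q hq hqdvd => ?_
  have hqp : q = p := by
    have : Fact q.Prime := ⟨hq⟩
    obtain ⟨z, hz⟩ := exists_prime_orderOf_dvd_card' q hqdvd
    have h1 : orderOf (z : Δ) ∣ p := orderOf_dvd_of_pow_eq_one (hexp _ z.2)
    rw [Subgroup.orderOf_coe, hz] at h1
    exact (Nat.prime_dvd_prime_iff_eq hq hp).1 h1
  subst hqp
  haveI : Fact q.Prime := ⟨hq⟩
  have hwl := wit_lt
  simp only [List.all_eq_true, decide_eq_true_eq] at hwl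
  by_cases h2 : q = 2
  · subst h2
    have hr := e_rel
    simp only [Bool.and_eq_true] at hr
    obtain ⟨⟨⟨⟨⟨⟨⟨r1, r2⟩, r3⟩, r4⟩, r5⟩, r6⟩, r7⟩, r8⟩ := hr
    set W : ℕ → J1 := fun n => wJ (eWit.getD n (0, 0)) with hW
    have hA : ∀ n < 4, Acts (W n : GL7) (eWP n) := fun n hn => acts_wJ (hwl.1 _ (by
      rw [List.getD_eq_getElem _ _ (show n < eWit.length from hn)]; exact List.getElem_mem _))
    have a0 := hA 0 (by norm_num); have a1 := hA 1 (by norm_num); have a2 := hA 2 (by norm_num); have a3 := hA 3 (by norm_num)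
    have x2 : W 0 * W 0 = 1 := eqJ (a0.mulJ a0) acts_oneJ r1
    have c01 : W 0 * W 1 = W 1 * W 0 := eqJ (a0.mulJ a1) (a1.mulJ a0) r2
    have c02 : W 0 * W 2 = W 2 * W 0 := eqJ (a0.mulJ a2) (a2.mulJ a0) r3
    have c12 : W 1 * W 2 = W 2 * W 1 := eqJ (a1.mulJ a2) (a2.mulJ a1) r4
    have g01 : W 3 * W 0 = W 1 * W 3 := eqJ (a3.mulJ a0) (a1.mulJ a3) r5
    have g12 : W 3 * W 1 = W 2 * W 3 := eqJ (a3.mulJ a1) (a2.mulJ a3) r6
    have g3 : W 3 ^ 3 * W 0 = W 0 * (W 1 * W 3 ^ 3) := eqJ ((a3.powJ 3).mulJ a0) (a0.mulJ (a1.mulJ (a3.powJ 3))) r7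
    have g5 : W 3 ^ 5 * W 0 = W 0 * (W 1 * (W 2 * W 3 ^ 5)) :=
      eqJ ((a3.powJ 5).mulJ a0) (a0.mulJ (a1.mulJ (a2.mulJ (a3.powJ 5)))) r8
    obtain ⟨a, ha⟩ := hσ.1 (W 0)
    obtain ⟨g, hg⟩ := hσ.1 (W 3)
    set b := g * a * g⁻¹ with hb
    set c := g * b * g⁻¹ with hc
    have sb : σ b = W 1 := by rw [hb, map_mul, map_mul, map_inv, ha, hg, g01, mul_inv_cancel_right]
    have sc : σ c = W 2 := by rw [hc, map_mul, map_mul, map_inv, sb, hg, g12, mul_inv_cancel_right]
    set w := a * a with hw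
    have hwk : w ∈ σ.ker := by rw [MonoidHom.mem_ker, hw, map_mul, ha, x2]
    have hwc := hσ.2.1 hwk
    have hw2 : w * w = 1 := by rw [← sq]; exact hexp w hwk
    have sq_lift : ∀ u v : Δ, σ u = σ v → v * v = w → u * u = w := fun u v huv hv => by
      have hk : v⁻¹ * u ∈ σ.ker := by rw [MonoidHom.mem_ker, map_mul, map_inv, huv, inv_mul_cancel]
      have hcz := Subgroup.mem_center_iff.1 (hσ.2.1 hk) v
      calc u * u = v * ((v⁻¹ * u) * v) * (v⁻¹ * u) := by group
        _ = v * v * ((v⁻¹ * u) * (v⁻¹ * u)) := by rw [← hcz]; group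
        _ = w := by rw [← sq (v⁻¹ * u), hexp _ hk, mul_one, hv]
    have hbw : b * b = w := conj_class hwc rfl
    have hcw : c * c = w := conj_class hwc hbw
    have habw : a * b * (a * b) = w := sq_lift _ (g ^ 3 * a * (g ^ 3)⁻¹) (by
      rw [map_mul σ a b, ha, sb, map_mul, map_mul, map_inv, map_pow, ha, hg, g3]; group) (conj_class hwc rfl)
    have hbcw : b * c * (b * c) = w := by
      rw [show b * c = g * (a * b) * g⁻¹ by rw [hc, hb]; group]
      exact conj_class hwc habw
    have habcw : a * b * c * (a * b * c) = w := sq_lift _ (g ^ 5 * a * (g ^ 5)⁻¹) (by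
      rw [map_mul σ (a * b) c, map_mul σ a b, ha, sb, sc, map_mul, map_mul, map_inv, map_pow, ha, hg, g5]; group) (conj_class hwc rfl)
    have hacw : a * c * (a * c) = w := by
      have e : σ (g * (a * b * c) * g⁻¹) = W 0 * W 2 := by
        have e6 : W 3 * W 2 = W 0 * W 1 * W 3 := by
          have h33 : W 3 ^ 3 * W 0 * (W 3 ^ 3)⁻¹ = W 0 * W 1 := by rw [g3]; group
          have h1 : W 3 * W 2 * (W 3)⁻¹ = W 3 ^ 3 * W 0 * (W 3 ^ 3)⁻¹ := by
            rw [show W 2 = W 3 * W 1 * (W 3)⁻¹ by rw [g12, mul_inv_cancel_right],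
              show W 1 = W 3 * W 0 * (W 3)⁻¹ by rw [g01, mul_inv_cancel_right]]
            simp only [pow_succ, pow_zero, one_mul, mul_inv_rev, mul_assoc]
          rw [h33] at h1
          exact mul_inv_eq_iff_eq_mul.1 h1
        simp only [map_mul, map_inv, ha, sb, sc, hg]
        rw [show W 3 * (W 0 * W 1 * W 2) * (W 3)⁻¹ = (W 3 * W 0) * (W 3)⁻¹ * (W 3 * W 1 * (W 3)⁻¹) * (W 3 * W 2 * (W 3)⁻¹) by group,
          g01, g12, e6, mul_inv_cancel_right, mul_inv_cancel_right, mul_inv_cancel_right,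
          show W 1 * W 2 * (W 0 * W 1) = W 1 * (W 2 * W 0) * W 1 by group, ← c02,
          show W 1 * (W 0 * W 2) * W 1 = (W 1 * W 0) * (W 2 * W 1) by group, ← c01, ← c12,
          show W 0 * W 1 * (W 1 * W 2) = W 0 * (W 1 * W 1) * W 2 by group]
        have h11 : W 1 * W 1 = 1 := by
          rw [show W 1 = W 3 * W 0 * (W 3)⁻¹ by rw [g01, mul_inv_cancel_right],
            show W 3 * W 0 * (W 3)⁻¹ * (W 3 * W 0 * (W 3)⁻¹) = W 3 * (W 0 * W 0) * (W 3)⁻¹ by group, x2]
          group
        rw [h11, mul_one]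
      exact sq_lift _ _ (by rw [e, map_mul, ha, sc]) (conj_class hwc habcw)
    obtain ⟨k1, k2, k3⟩ := lifts_commute hwc hw2 rfl hbw hcw habw hacw hbcw habcw
    have hcomm : ∀ u ∈ ({a, b, c} : Set Δ), ∀ v ∈ ({a, b, c} : Set Δ), Commute u v := by
      rintro u (rfl | rfl | rfl) v (rfl | rfl | rfl)
      exacts [Commute.refl _, k1, k2, k1.symm, Commute.refl _, k3, k2.symm, k3.symm, Commute.refl _]
    refine ⟨Subgroup.closure (σ '' {a, b, c}), ?_, fun z hz hzo hmem =>
      Spor.Mult.no_elt_of_comm _ (Spor.Mult.comm_of_gens σ hσ.2.1 _ hcomm) hq hzo hmem⟩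
    set Q := Subgroup.closure (σ '' {a, b, c})
    have h8 : 8 ≤ Nat.card Q := by
      have hcube : ∀ n < 8, ∃ x ∈ Q, Acts (x : GL7) (cubeP n) := by
        have m0 : W 0 ∈ Q := Subgroup.subset_closure ⟨a, by simp, ha⟩
        have m1 : W 1 ∈ Q := Subgroup.subset_closure ⟨b, by simp, sb⟩
        have m2 : W 2 ∈ Q := Subgroup.subset_closure ⟨c, by simp, sc⟩
        intro n _
        refine ⟨(bif Nat.beq (n / 4 % 2) 1 then W 2 else 1) * ((bif Nat.beq (n / 2 % 2) 1 then W 1 else 1) *
          (bif Nat.beq (n % 2) 1 then W 0 else 1)), ?_, ?_⟩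
        · refine mul_mem ?_ (mul_mem ?_ ?_) <;> (cases Nat.beq _ 1 <;> simp [m0, m1, m2, one_mem])
        · have pick : ∀ (β : Bool) {x : J1} {τ : ℕ → ℕ}, Acts (x : GL7) τ →
              Acts ((bif β then x else 1 : J1) : GL7) (fun f => bif β then τ f else f) := fun β x τ hx => by
            cases β
            · exact acts_oneJ
            · exact hx
          exact (pick _ a2).mulJ ((pick _ a1).mulJ (pick _ a0))
      choose x hx hxa using hcube
      have hinj : Function.Injective fun n : Fin 8 => (⟨x n n.isLt, hx n n.isLt⟩ : Q) := by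
        have key : ∀ m n : Fin 8, (n : ℕ) < m → x m m.isLt ≠ x n n.isLt := fun m n h =>
          neJ (hxa _ m.isLt) (hxa _ n.isLt) (by
            have := all_range (all_range cube_chk m.isLt) h
            simpa using this)
        intro m n e
        rcases lt_trichotomy (m : ℕ) n with h | h | h
        · exact absurd (congrArg Subtype.val e).symm (key n m h)
        · exact Fin.ext h
        · exact absurd (congrArg Subtype.val e) (key m n h)
      simpa using Nat.card_le_card_of_injective _ hinj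
    have hQ2 : IsPGroup 2 Q := by
      intro y
      refine ⟨1, Subtype.ext ?_⟩
      obtain ⟨u, hu⟩ := hσ.1 (y : J1)
      have hmem : u ∈ Q.comap σ := by rw [Subgroup.mem_comap, hu]; exact y.2
      show (y : J1) ^ (2 ^ 1) = 1
      rw [pow_one, ← hu]
      refine Subgroup.closure_induction (p := fun v _ => v ^ 2 = 1) ?_ (one_pow 2) ?_ ?_ (hu ▸ y.2 : σ u ∈ Q)
      · rintro _ ⟨v, hv, rfl⟩
        rw [← map_pow, sq]
        rcases hv with rfl | rfl | rfl
        · exact MonoidHom.mem_ker.1 hwk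
        · rw [hbw]; exact MonoidHom.mem_ker.1 hwk
        · rw [hcw]; exact MonoidHom.mem_ker.1 hwk
      · intro v v' hv hv' h h'
        obtain ⟨s, hs⟩ := hσ.1 v
        obtain ⟨t, ht⟩ := hσ.1 v'
        have hco : Commute v v' := by
          have := Spor.Mult.comm_of_gens σ hσ.2.1 _ hcomm s (by rw [Subgroup.mem_comap, hs]; exact hv) t
            (by rw [Subgroup.mem_comap, ht]; exact hv')
          rw [← hs, ← ht]
          exact this.map σ
        rw [hco.mul_pow, h, h', one_mul]
      · intro v _ h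
        rw [inv_pow, h, inv_one]
    obtain ⟨k, hk⟩ := IsPGroup.iff_card.1 hQ2
    have hdvd : 2 ^ k ∣ 175560 := hk ▸ card_J1 ▸ Subgroup.card_subgroup_dvd_card Q
    have hk3 : k ≤ 3 := by
      by_contra hh
      have : 2 ^ 4 ∣ 175560 := (Nat.pow_dvd_pow 2 (by omega)).trans hdvd
      norm_num at this
    have hk8 : Nat.card Q = 8 := by
      have : 2 ^ k ≤ 2 ^ 3 := Nat.pow_le_pow_right (by norm_num) hk3
      omega
    have := Subgroup.card_mul_index Q
    rw [hk8, card_J1] at this
    omega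
  · by_cases hd : q ∣ 175560
    · have hmem : q ∈ [3, 5, 7, 11, 19] := by
        have hfac : (175560 : ℕ) = 2 * 2 * 2 * 3 * 5 * 7 * 11 * 19 := by norm_num
        rw [hfac] at hd
        simp only [hq.dvd_mul] at hd
        have he : ∀ r : ℕ, r.Prime → q ∣ r → q = r := fun r hr h => (Nat.prime_dvd_prime_iff_eq hq hr).1 h
        rcases hd with ((((((h | h) | h) | h) | h) | h) | h) | h
        iterate 3 exact absurd (he 2 Nat.prime_two h) h2
        all_goals first
          | (rw [he 3 (by norm_num) h]; simp; done)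
          | (rw [he 5 (by norm_num) h]; simp; done)
          | (rw [he 7 (by norm_num) h]; simp; done)
          | (rw [he 11 (by norm_num) h]; simp; done)
          | (rw [he 19 (by norm_num) h]; simp; done)
      obtain ⟨v, hv, hvq⟩ : ∃ v ∈ pWit, v.1 = q := by
        simp only [List.mem_cons, List.not_mem_nil, or_false] at hmem
        rcases hmem with rfl | rfl | rfl | rfl | rfl
        exacts [⟨(3, 789, 75), by simp [pWit], rfl⟩, ⟨(5, 463, 18), by simp [pWit], rfl⟩,
          ⟨(7, 704, 78), by simp [pWit], rfl⟩, ⟨(11, 1273, 90), by simp [pWit], rfl⟩, ⟨(19, 208, 3), by simp [pWit], rfl⟩]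
      have hc := List.all_eq_true.1 p_chk v hv
      simp only [Bool.and_eq_true, Bool.not_eq_true'] at hc
      have hA := acts_wJ (w := v.2) (hwl.2 v hv)
      have ho : orderOf (wJ v.2) = q := by
        refine orderOf_eq_prime ?_ (neJ hA acts_oneJ hc.2)
        rw [← hvq]; exact eqJ (hA.powJ v.1) acts_oneJ hc.1
      obtain ⟨a, ha⟩ := hσ.1 (wJ v.2)
      refine ⟨Subgroup.closure (σ '' {a}), ?_, fun z hz hzo hm =>
        Spor.Mult.no_elt_of_comm _ (Spor.Mult.comm_of_gens σ hσ.2.1 _ (by rintro _ rfl _ rfl; exact Commute.refl _)) hq hzo hm⟩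
      rw [Set.image_singleton, ha, ← Subgroup.zpowers_eq_closure]
      intro hdiv
      have hm := Subgroup.card_mul_index (Subgroup.zpowers (wJ v.2))
      rw [Nat.card_zpowers, ho, card_J1] at hm
      have hsq : q * q ∣ 175560 := hm ▸ mul_dvd_mul_left q hdiv
      simp only [List.mem_cons, List.not_mem_nil, or_false] at hmem
      rcases hmem with rfl | rfl | rfl | rfl | rfl <;> norm_num at hsq
    · refine ⟨⊥, ?_, fun z hz hzo hm => Spor.Mult.no_elt_of_comm _ ?_ hq hzo hm⟩
      · rw [Subgroup.index_bot, card_J1]; exact hd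
      · intro u hu v _
        rw [MonoidHom.comap_bot] at hu
        exact (Subgroup.mem_center_iff.1 (hσ.2.1 hu) v).symm

end Cfsg.Agent.J1Cert

end
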