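import Cfsg.Agent.Lib.Spor.J1.DataMain
import Cfsg.Agent.Lib.Spor.J1.DataPerm

/-! Functions on the tables for `J1`. -/

set_option autoImplicit false

namespace Cfsg.Agent.J1Cert

/-- code of a point -/
noncomputable def pcode (i : Nat) : Nat := get28 vTab i

/-- coordinate of a point -/
noncomputable def pc (i k : Nat) : Nat := Nat.mod (Nat.shiftRight (pcode i) (Nat.mul 4 k)) 16

/-- generator maps -/
noncomputable def gP (s : Bool) (i : Nat) : Nat := bif s then get gT1 i else get gT0 i

/-- stabiliser generator maps -/
noncomputable def hgP (s : Bool) (i : Nat) : Nat := bif s then get hgT1 i else get hgT0 i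

/-- the fuel for the transversal recursion -/
def fuel : Nat := 1540

/-- maps of the transversal -/
noncomputable def eP : Nat → Nat → Nat → Nat
  | 0, _, f => f
  | k + 1, i, f => bif Nat.beq i 0 then f else gP (Nat.beq (get4 labT i) 1) (eP k (get parT i) f)

/-- maps of a word -/
noncomputable def wP : List Bool → Nat → Nat
  | [], f => f
  | s :: w, f => gP s (wP w f)

/-- stabiliser table -/
def hT (k : Nat) : Tab := hTabs.getD k (Tab.l 0)

/-- transversal table at a representative -/
def rT (o : Nat) : Tab := rTabs.getD o (Tab.l 0)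

/-- images of the frame points under the transversal -/
def eFT : List Tab := [eF0, eF1, eF2, eF3, eF4, eF5, eF6, eF7]

/-- left products in the stabiliser -/
noncomputable def hcl (s : Bool) (k : Nat) : Nat := bif s then get hclT1 k else get hclT0 k

/-- the stabiliser generators -/
def hg (s : Bool) : List Bool := bif s then hw1 else hw0

/-- Schreier element -/
noncomputable def sk (s : Bool) (i : Nat) : Nat := bif s then get skT1 i else get skT0 i

/-- agreement on a list of points -/
def feq (L : List Nat) (σ τ : Nat → Nat) : Bool := L.all fun f => Nat.beq (σ f) (τ f)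

/-- two points determining an element -/
def base2 : List Nat := [0, bpt]

/-- check of one row of a generator matrix against the coordinates of a point and of its image -/
noncomputable def rowChk (a : List Nat) (i j c k : Nat) : Bool :=
  Nat.beq ((a.getD 0 0 * pc i 0 + a.getD 1 0 * pc i 1 + a.getD 2 0 * pc i 2 + a.getD 3 0 * pc i 3 + a.getD 4 0 * pc i 4
    + a.getD 5 0 * pc i 5 + a.getD 6 0 * pc i 6) % 11) (c * pc j k % 11)

/-- rows of the first matrix -/
def rowsX : List (List Nat) := [[0,1,0,0,0,0,0],[0,0,1,0,0,0,0],[0,0,0,1,0,0,0],[0,0,0,0,1,0,0],[0,0,0,0,0,1,0],[0,0,0,0,0,0,1],[1,0,0,0,0,0,0]]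

/-- rows of the second matrix -/
def rowsY : List (List Nat) := [[8,2,10,10,8,10,8],[9,1,1,3,1,3,3],[10,10,8,10,8,8,2],[10,8,10,8,8,2,10],[8,10,8,8,2,10,10],[1,3,3,9,1,1,3],[3,3,9,1,1,3,1]]

/-- check of the generators at a point -/
noncomputable def genChk (i : Nat) : Bool :=
  (decide (get gT0 i < 1540) && !(Nat.beq (get4 cT0 i % 11) 0) &&
    (List.range 7).all fun k => rowChk (rowsX.getD k []) i (get gT0 i) (get4 cT0 i) k) &&
  (decide (get gT1 i < 1540) && !(Nat.beq (get4 cT1 i % 11) 0) &&
    (List.range 7).all fun k => rowChk (rowsY.getD k []) i (get gT1 i) (get4 cT1 i) k)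

/-- check of the coordinates of a point -/
noncomputable def ptChk (i : Nat) : Bool :=
  (decide (get rkT i < 1540) && Nat.beq (get srtT (get rkT i)) i &&
    (Nat.beq i 0 || decide (pcode (get srtT (i - 1)) < pcode (get srtT i)))) &&
  ((List.range 7).any fun k => Nat.beq (pc i k) 1 && (List.range k).all fun l => Nat.beq (pc i l) 0) &&
  ((List.range 7).all fun k => decide (pc i k < 11)) &&
  Nat.beq (pcode i) (pc i 0 + 16 * pc i 1 + 256 * pc i 2 + 4096 * pc i 3 + 65536 * pc i 4 + 1048576 * pc i 5 + 16777216 * pc i 6)

/-- check of the transversal at a point -/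
noncomputable def eChk (i : Nat) : Bool :=
  (Nat.beq i 0 || decide (get parT i < i)) &&
  (List.range 8).all fun n => Nat.beq (get (eFT.getD n (Tab.l 0)) i)
    (bif Nat.beq i 0 then frame.getD n 0 else gP (Nat.beq (get4 labT i) 1) (get (eFT.getD n (Tab.l 0)) (get parT i))) &&
  Nat.beq (get eF0 i) i

/-- check of a stabiliser table -/
noncomputable def hChk (k : Nat) : Bool :=
  (Nat.beq k 0 || decide (get hparT k < k)) && Nat.beq (get (hT k) 0) 0 &&
  (List.range 1540).all fun i => Nat.beq (get (hT k) i)
    (bif Nat.beq k 0 then i else hgP (Nat.beq (get4 hlabT k) 1) (get (hT (get hparT k)) i))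

/-- Schreier check -/
noncomputable def sChk (i : Nat) : Bool := [false, true].all fun s => decide (sk s i < 114) &&
  (List.range 8).all fun n => Nat.beq (gP s (get (eFT.getD n (Tab.l 0)) i))
    (bif Nat.beq (sk s i) 0 then get (eFT.getD n (Tab.l 0)) (gP s i)
     else eP fuel (gP s i) (get (hT (sk s i)) (frame.getD n 0)))

/-- the possible orders -/
def ordList : List Nat := [1, 2, 3, 5, 6, 7, 10, 11, 15, 19]

/-- map of an element whose point is a representative -/
noncomputable def xP (o k f : Nat) : Nat := get (rT o) (get (hT k) f)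

/-- iteration -/
def itr (σ : Nat → Nat) : Nat → Nat → Nat
  | 0, f => f
  | k + 1, f => σ (itr σ k f)

/-- witnesses for the orders -/
def ordWit : List Nat := [0, 1, 2, 119, 3, 114, 120, 117, 118, 16]

/-- the involution -/
noncomputable def tP (f : Nat) : Nat := get (hT 1) f

/-- map of a member of the centraliser -/
noncomputable def cP (m f : Nat) : Nat := eP fuel (get cPtT m) (get (hT (get cHT m)) f)

/-- left products in the centraliser -/
noncomputable def ccl (s : Bool) (m : Nat) : Nat := bif s then get cclT1 m else get cclT0 m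

/-- the generators of the centraliser -/
def cgn (s : Bool) : Nat := bif s then 2 else 1

/-- a path of moves from the first point -/
noncomputable def walk (o : Nat) : List Nat → Nat → Nat
  | [], y => y
  | k :: p, y => walk o p (xP o k y)

end Cfsg.Agent.J1Cert
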