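/-! Tables with small leaves. -/

set_option autoImplicit false

namespace Cfsg.Agent.J1Cert

/-- a table: a binary tree with packed leaves, the path being the binary digits of the leaf number -/
inductive Tab
  | l (v : Nat)
  | n (a b : Tab)

/-- the leaf with a given number -/
noncomputable def Tab.find (t : Tab) : Nat → Nat :=
  Tab.rec (fun v _ => v) (fun _ _ ga gb j => bif Nat.beq (Nat.mod j 2) 0 then ga (Nat.div j 2) else gb (Nat.div j 2)) t

/-- entry of a table with 11-bit entries -/
noncomputable def get (t : Tab) (i : Nat) : Nat :=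
  Nat.mod (Nat.shiftRight (t.find (Nat.div i 16)) (Nat.mul 11 (Nat.mod i 16))) 2048

/-- entry of a table with 4-bit entries -/
noncomputable def get4 (t : Tab) (i : Nat) : Nat :=
  Nat.mod (Nat.shiftRight (t.find (Nat.div i 32)) (Nat.mul 4 (Nat.mod i 32))) 16

/-- entry of a table with 28-bit entries -/
noncomputable def get28 (t : Tab) (i : Nat) : Nat :=
  Nat.mod (Nat.shiftRight (t.find (Nat.div i 8)) (Nat.mul 28 (Nat.mod i 8))) 268435456

end Cfsg.Agent.J1Cert
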